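import Cfsg.Agent.BlocksChars.HalfDegree.Triple

/-!
# Half degree: the adjoint action and the span of the triple
-/

set_option autoImplicit false
set_option linter.style.haveILetI false
set_option linter.unusedSectionVars false

namespace Cfsg.Agent.BlocksChars.HalfDegree

open Polynomial

universe u v w₁

variable {k : Type u} [Field k] {p : ℕ} [hp : Fact p.Prime] [CharP k p]
variable {V : Type v} [AddCommGroup V] [Module k V] [FiniteDimensional k V]
variable {G : Type w₁} [Group G]

/-- The adjoint action on endomorphisms. -/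
noncomputable def adj (ρ : G →* Module.End k V) : G →* Module.End k (Module.End k V) where
  toFun g := LinearMap.mulLeft k (ρ g) ∘ₗ LinearMap.mulRight k (ρ g⁻¹)
  map_one' := LinearMap.ext fun e => by simp
  map_mul' g h := LinearMap.ext fun e => by simp [mul_assoc]

theorem adj_apply (ρ : G →* Module.End k V) (g : G) (e : Module.End k V) :
    adj ρ g e = ρ g * e * ρ g⁻¹ := by simp [adj, mul_assoc]

theorem adj_mul_apply (ρ : G →* Module.End k V) (g h : G) (e : Module.End k V) :
    adj ρ g (adj ρ h e) = adj ρ (g * h) e := by rw [map_mul]; rfl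

theorem adj_inv_adj (ρ : G →* Module.End k V) (g : G) (e : Module.End k V) :
    adj ρ g⁻¹ (adj ρ g e) = e := by rw [adj_mul_apply, inv_mul_cancel, map_one]; rfl

theorem adj_isometry (ρ : G →* Module.End k V) (g : G) (e e' : Module.End k V) :
    tr (adj ρ g e * e') = tr (e * adj ρ g⁻¹ e') := by
  rw [adj_apply, adj_apply, inv_inv, mul_assoc, mul_assoc, tr_comm (ρ g)]
  simp [mul_assoc]

theorem adj_eq_of (ρ : G →* Module.End k V) (g : G) (e b : Module.End k V) (h : ρ g * e = b * ρ g) :
    adj ρ g e = b := by
  rw [adj_apply, h, mul_assoc, ← map_mul, mul_inv_cancel, map_one, mul_one]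

/-- The span of three vectors. -/
def span3 (a h f : Module.End k V) : Submodule k (Module.End k V) := Submodule.span k {a, h, f}

theorem mem_span3 {a h f e : Module.End k V} :
    e ∈ span3 a h f ↔ ∃ s t u : k, e = s • a + t • h + u • f := by
  constructor
  · intro he
    obtain ⟨s, z, hz, rfl⟩ := Submodule.mem_span_insert.1 he
    obtain ⟨t, z', hz', rfl⟩ := Submodule.mem_span_insert.1 hz
    obtain ⟨u, rfl⟩ := Submodule.mem_span_singleton.1 hz'
    exact ⟨s, t, u, by abel⟩
  · rintro ⟨s, t, u, rfl⟩
    refine add_mem (add_mem (Submodule.smul_mem _ _ (Submodule.subset_span ?_))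
      (Submodule.smul_mem _ _ (Submodule.subset_span ?_))) (Submodule.smul_mem _ _ (Submodule.subset_span ?_)) <;>
      simp

/-- The orthogonal projection on the span of the triple. -/
noncomputable def proj3 (a h f : Module.End k V) : Module.End k (Module.End k V) :=
  (tr (a * f))⁻¹ • (((LinearMap.trace k V).comp (LinearMap.mulRight k f)).smulRight a +
    ((LinearMap.trace k V).comp (LinearMap.mulRight k a)).smulRight f) +
  (2 * tr (a * f))⁻¹ • ((LinearMap.trace k V).comp (LinearMap.mulRight k h)).smulRight h

theorem proj3_apply (a h f e : Module.End k V) :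
    proj3 a h f e = ((tr (a * f))⁻¹ * tr (e * f)) • a + ((2 * tr (a * f))⁻¹ * tr (e * h)) • h +
      ((tr (a * f))⁻¹ * tr (e * a)) • f := by
  simp only [proj3, tr, LinearMap.add_apply, LinearMap.smul_apply, LinearMap.smulRight_apply,
    LinearMap.coe_comp, Function.comp_apply, LinearMap.mulRight_apply, smul_add, smul_smul]
  abel

theorem proj3_mem (a h f e : Module.End k V) : proj3 a h f e ∈ span3 a h f :=
  mem_span3.2 ⟨_, _, _, proj3_apply a h f e⟩

theorem proj3_selfAdjoint (a h f e e' : Module.End k V) :
    tr (proj3 a h f e * e') = tr (e * proj3 a h f e') := by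
  have hl : ∀ b g : Module.End k V, tr (b + g) = tr b + tr g := fun b g => map_add _ _ _
  have hs : ∀ (s : k) (b : Module.End k V), tr (s • b) = s * tr b := fun s b => map_smul _ _ _
  simp only [proj3_apply, add_mul, mul_add, smul_mul_assoc, mul_smul_comm, hl, hs, tr_comm a e',
    tr_comm h e', tr_comm f e']
  ring

variable {H : Type w₁} [Group H] {x : Module.End k V} {τ : H →* Module.End k V} {c : H →* kˣ}
  {a h f : Module.End k V}

theorem Triple.two_ne (T : Triple x τ c a h f) (hp2 : p ≠ 2) : (2 : k) ≠ 0 := by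
  intro h2
  have h' : ((2 : ℕ) : k) = 0 := by exact_mod_cast h2
  rw [CharP.cast_eq_zero_iff k p] at h'
  exact hp2 ((Nat.prime_dvd_prime_iff_eq hp.out Nat.prime_two).1 h')

theorem Triple.coord (T : Triple x τ c a h f) (s t u : k) :
    tr ((s • a + t • h + u • f) * f) = s * tr (a * f) ∧
    tr ((s • a + t • h + u • f) * h) = t * (2 * tr (a * f)) ∧
    tr ((s • a + t • h + u • f) * a) = u * tr (a * f) := by
  have hl : ∀ b g : Module.End k V, tr (b + g) = tr b + tr g := fun b g => map_add _ _ _
  have hs : ∀ (s : k) (b : Module.End k V), tr (s • b) = s * tr b := fun s b => map_smul _ _ _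
  refine ⟨?_, ?_, ?_⟩ <;> simp only [add_mul, smul_mul_assoc, hl, hs]
  · rw [T.hf, T.ff]; ring
  · rw [T.ah, T.hh, tr_comm f h, T.hf]; ring
  · rw [T.aa, tr_comm h a, T.ah, tr_comm f a]; ring

theorem Triple.proj3_eq (T : Triple x τ c a h f) (hp2 : p ≠ 2) {e : Module.End k V}
    (he : e ∈ span3 a h f) : proj3 a h f e = e := by
  obtain ⟨s, t, u, rfl⟩ := mem_span3.1 he
  obtain ⟨h1, h2, h3⟩ := T.coord s t u
  have := T.af
  have := T.two_ne hp2
  rw [proj3_apply, h1, h2, h3]
  congr 1
  · congr 1
    · congr 1; field_simp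
    · congr 1; field_simp
  · congr 1; field_simp

theorem Triple.linearIndependent (T : Triple x τ c a h f) (hp2 : p ≠ 2) :
    LinearIndependent k ![a, h, f] := by
  rw [Fintype.linearIndependent_iff]
  intro g hg
  simp only [Fin.sum_univ_three, Matrix.cons_val_zero, Matrix.cons_val_one, Matrix.cons_val_two,
    Matrix.head_cons, Matrix.tail_cons] at hg
  obtain ⟨h1, h2, h3⟩ := T.coord (g 0) (g 1) (g 2)
  rw [hg, zero_mul, show tr (0 : Module.End k V) = 0 from map_zero _] at h1 h2 h3
  intro i
  fin_cases i
  · exact (mul_eq_zero.1 h1.symm).resolve_right T.af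
  · exact (mul_eq_zero.1 h2.symm).resolve_right (mul_ne_zero (T.two_ne hp2) T.af)
  · exact (mul_eq_zero.1 h3.symm).resolve_right T.af

theorem Triple.finrank_span3 (T : Triple x τ c a h f) (hp2 : p ≠ 2) :
    Module.finrank k (span3 a h f) = 3 := by
  have h1 := finrank_span_eq_card (T.linearIndependent hp2)
  rwa [Matrix.range_cons, Matrix.range_cons, Matrix.range_cons, Matrix.range_empty, Set.union_empty,
    Set.singleton_union, Set.singleton_union, Fintype.card_fin] at h1

end Cfsg.Agent.BlocksChars.HalfDegree
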