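import Cfsg.Agent.Techniques.SL2.Main

/-!
# Half degree: subgroups of `PSL₂` of order divisible by `p` exactly once
-/

set_option autoImplicit false
set_option linter.style.haveILetI false
set_option linter.unusedSectionVars false

namespace Cfsg.Agent.BlocksChars.HalfDegree

open scoped MatrixGroups Pointwise
open Cfsg.Agent.Techniques.SL2 Cfsg.Agent.Techniques.SL2.Basic

universe u

variable {F : Type u} [Field F] [Fintype F] {p : ℕ} [hp : Fact p.Prime] [CharP F p]

theorem natCard_center_SL2 (hp2 : p ≠ 2) (F : Type u) [Field F] [Fintype F] [CharP F p] :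
    Nat.card (Subgroup.center SL(2, F)) = 2 := by
  obtain ⟨f, -, hq⟩ := FiniteField.card F p
  rw [Classical.Linear.natCard_center_SL (Fin 2), Fintype.card_fin, hq]
  have hodd : (p ^ (f : ℕ)) % 2 = 1 := Nat.odd_iff.1 ((hp.out.odd_of_ne_two hp2).pow)
  exact Nat.gcd_eq_left (Nat.dvd_of_mod_eq_zero (by omega))

theorem negOne_mem_center : Main.negOne F ∈ Subgroup.center SL(2, F) :=
  Subgroup.mem_center_iff.2 fun g => Main.negOne_comm g

theorem eq_negOne_of_sq (hp2 : p ≠ 2) {a : SL(2, F)} (h : a ^ 2 = 1) (h1 : a ≠ 1) :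
    a = Main.negOne F := by
  have hd : (a : Matrix (Fin 2) (Fin 2) F).det = 1 := a.det_coe
  have hinv : a⁻¹ = a := inv_eq_of_mul_eq_one_right (by rwa [pow_two] at h)
  have hadj : Matrix.adjugate (a : Matrix (Fin 2) (Fin 2) F) = a := by
    rw [← Matrix.SpecialLinearGroup.coe_inv, hinv]
  rw [Matrix.adjugate_fin_two] at hadj
  have h01 := congrFun (congrFun hadj 0) 1
  have h10 := congrFun (congrFun hadj 1) 0
  have h00 := congrFun (congrFun hadj 0) 0
  simp at h01 h10 h00
  have h2 : (2 : F) ≠ 0 := two_ne_zero' (F := F) p hp2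
  have z01 : (a : Matrix (Fin 2) (Fin 2) F) 0 1 = 0 :=
    (mul_eq_zero.1 (show (2 : F) * _ = 0 by linear_combination -h01)).resolve_left h2
  have z10 : (a : Matrix (Fin 2) (Fin 2) F) 1 0 = 0 :=
    (mul_eq_zero.1 (show (2 : F) * _ = 0 by linear_combination -h10)).resolve_left h2
  rw [Matrix.det_fin_two, z01, z10, h00] at hd
  rcases mul_self_eq_one_iff.1 (show (a : Matrix (Fin 2) (Fin 2) F) 0 0 * (a : Matrix (Fin 2) (Fin 2) F) 0 0 = 1 by
    linear_combination hd) with e | e
  · exact absurd (Subtype.ext (by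
      ext i j; fin_cases i <;> fin_cases j <;> simp [z01, z10, e, h00])) h1
  · exact Subtype.ext (by
      ext i j; fin_cases i <;> fin_cases j <;> simp [Main.negOne, z01, z10, e, h00])

/-- Subgroups of `PSL₂` with several Sylow `p`-subgroups of order `p`. -/
theorem psl_or_index_two (hp5 : 5 ≤ p) (S : Subgroup (SL(2, F) ⧸ Subgroup.center SL(2, F)))
    (hdiv : p ∣ Nat.card S) (hsq : ¬ p ^ 2 ∣ Nat.card S) (hn : 1 < Nat.card (Sylow p S)) :
    Nonempty (S ≃* Matrix.ProjectiveSpecialLinearGroup (Fin 2) (ZMod p)) ∨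
      ∀ u : S, u ^ p = 1 → u ≠ 1 → ∀ i : ℕ, ¬ p ∣ i → IsConj u (u ^ i) := by
  classical
  have hp2 : p ≠ 2 := by omega
  set H := S.comap (QuotientGroup.mk' (Subgroup.center SL(2, F))) with hH
  let f : H →* S :=
    ((QuotientGroup.mk' (Subgroup.center SL(2, F))).comp H.subtype).codRestrict S fun h => h.2
  have hf : Function.Surjective f := fun s => by
    obtain ⟨a, ha⟩ := QuotientGroup.mk'_surjective _ (s : SL(2, F) ⧸ Subgroup.center SL(2, F))
    exact ⟨⟨a, show _ ∈ S by rw [ha]; exact s.2⟩, Subtype.ext ha⟩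
  have hneg : Main.negOne F ∈ H := by
    show _ ∈ S
    rw [QuotientGroup.mk'_apply, (QuotientGroup.eq_one_iff _).2 negOne_mem_center]
    exact one_mem S
  have hker : ∀ h : H, f h = 1 ↔ (h : SL(2, F)) ∈ Subgroup.center SL(2, F) := fun h => by
    rw [Subtype.ext_iff]
    exact QuotientGroup.eq_one_iff _
  have hcardH : Nat.card H = 2 * Nat.card S := by
    have hk : Nat.card f.ker = 2 := by
      refine (Nat.card_congr ⟨fun h => ⟨h.1.1, (hker h.1).1 h.2⟩,
        fun c => ⟨⟨c.1, show _ ∈ S by
          rw [QuotientGroup.mk'_apply, (QuotientGroup.eq_one_iff _).2 c.2]; exact one_mem S⟩,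
          (hker _).2 c.2⟩, fun h => rfl, fun c => rfl⟩).trans (natCard_center_SL2 hp2 F)
    rw [← f.ker.card_mul_index, hk, Subgroup.index_ker, MonoidHom.range_eq_top.2 hf, Subgroup.card_top]
  have hr : 1 < Nat.card (Sylow p H) := lt_of_lt_of_le hn
    (Nat.card_le_card_of_surjective _ (Sylow.mapSurjective_surjective (p := p) hf))
  haveI : Fintype H := Fintype.ofFinite _
  let P : Sylow p H := default
  have hPcard : Nat.card (P : Subgroup H) = p := by
    obtain ⟨k, hk⟩ := IsPGroup.iff_card.1 P.isPGroup'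
    have hd : p ^ k ∣ 2 * Nat.card S := hcardH ▸ hk ▸ Subgroup.card_subgroup_dvd_card _
    have hd' : p ^ k ∣ Nat.card S :=
      (Nat.Coprime.pow_left k ((Nat.coprime_primes hp.out Nat.prime_two).2 hp2)).dvd_of_dvd_mul_left hd
    have hle : k ≤ 1 := by
      by_contra h
      exact hsq ((pow_dvd_pow p (by omega : 2 ≤ k)).trans hd')
    have hk0 : k ≠ 0 := by
      intro h
      have := P.dvd_card_of_dvd_card (show p ∣ Nat.card H from hcardH ▸ dvd_mul_of_dvd_right hdiv 2)
      rw [hk, h, pow_zero, Nat.dvd_one] at this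
      exact hp.out.ne_one this
    rw [hk, show k = 1 by omega, pow_one]
  -- normalise the Sylow subgroup
  have key : ∀ Q : Sylow p H, ∃ ι : H →* SL(2, F), Function.Injective ι ∧
      (∀ x ∈ Q, mat ι x 1 0 = 0 ∧ mat ι x 0 0 = 1) ∧ Cen ι ⟨Main.negOne F, hneg⟩ := by
    intro Q
    obtain ⟨T, hT⟩ := (Q.isPGroup'.map H.subtype).exists_le_sylow
    obtain ⟨g, rfl⟩ := Classical.GL2.exists_eq_conj_U p T
    let ι : H →* SL(2, F) := (MulAut.conj g⁻¹).toMonoidHom.comp H.subtype
    refine ⟨ι, (MulAut.conj g⁻¹).injective.comp Subtype.coe_injective, fun x hx => ?_, ?_⟩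
    · have h2 : (x : SL(2, F)) ∈ ((g • Classical.GL2.sylowSL p : Sylow p SL(2, F)) :
          Subgroup SL(2, F)) := hT (Subgroup.mem_map_of_mem _ hx)
      rw [Sylow.coe_subgroup_smul, Subgroup.mem_pointwise_smul_iff_inv_smul_mem,
        Classical.GL2.coe_sylowSL] at h2
      obtain ⟨c, hc⟩ := h2
      have e : mat ι x = !![1, c.toAdd; 0, 1] := by
        rw [← Classical.GL2.coe_uniHom, hc]
        simp [mat, ι, MulAut.smul_def]
      simp [e]
    · refine (cen_iff ι _).2 (Or.inr ?_)
      have e : ι ⟨Main.negOne F, hneg⟩ = Main.negOne F := by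
        show g⁻¹ * Main.negOne F * g⁻¹⁻¹ = Main.negOne F
        rw [inv_inv, Main.negOne_comm, mul_assoc, inv_mul_cancel, mul_one]
      rw [mat, e]
      rfl
  have hz1 : (⟨Main.negOne F, hneg⟩ : H) ≠ 1 := fun h => Main.negOne_ne_one p hp2 (congrArg Subtype.val h)
  -- the normaliser
  have hnorm : ∀ Q : Sylow p H, ∀ u ∈ Q, u ≠ 1 →
      ∃ d, Nat.card H = (p + 1) * (2 * p * d) ∧ d + 1 ≤ p ∧
        Nat.card (Subgroup.centralizer ({u} : Set H)) = 2 * p ∧
        Nat.card (Subgroup.normalizer ((Q : Subgroup H) : Set H)) = 2 * p * d := by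
    intro Q u hu hu1
    obtain ⟨ι, hι, hQ, hz⟩ := key Q
    have hQc : Nat.card (Q : Subgroup H) = p := (Nat.card_congr (Q.equiv P).toEquiv).trans hPcard
    have hnp : Nat.card (Sylow p H) = p + 1 := by
      rcases Dickson.dichotomy (ι := ι) p hι hp2 hz hz1 Q hQ hr with h | h
      · rw [h, hQc]
      · omega
    have hC : Nat.card (Subgroup.centralizer ({u} : Set H)) = 2 * p := by
      rw [Borel.natCard_centralizer p hι hp2 hu hu1 hz hz1, hQc]
    obtain ⟨d, hd⟩ := Orbits.card_normalizer_sylow (ι := ι) p hι hp2 Q hu hu1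
    have hle := Orbits.succ_le (ι := ι) p hι hp2 Q hu hu1 hd
    rw [hQc] at hle
    rw [hC] at hd
    refine ⟨d, ?_, hle, hC, hd⟩
    rw [← hd, ← hnp, Sylow.card_eq_index_normalizer Q, mul_comm]
    exact (Subgroup.card_mul_index _).symm
  -- the copy of `SL₂(p)`
  obtain ⟨φ, hφ⟩ := Main.hasSL2 p hp2 H hr
  let φ' : SL(2, ZMod p) →* S := f.comp φ
  have hkerφ : φ'.ker = Subgroup.center SL(2, ZMod p) := by
    have hneg' : φ (Main.negOne (ZMod p)) = ⟨Main.negOne F, hneg⟩ := by
      refine Subtype.ext (eq_negOne_of_sq hp2 ?_ ?_)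
      · rw [← Subgroup.coe_pow, ← map_pow, pow_two, Main.negOne_sq, map_one]; rfl
      · intro h
        exact Main.negOne_ne_one p hp2 (hφ ((Subtype.ext h : φ (Main.negOne (ZMod p)) = 1).trans (map_one φ).symm))
    have hle : ∀ a ∈ φ'.ker, a = 1 ∨ a = Main.negOne (ZMod p) := by
      intro a ha
      have hc := (hker (φ a)).1 ha
      rw [Matrix.SpecialLinearGroup.mem_center_iff] at hc
      obtain ⟨r, hr, hra⟩ := hc
      rw [Fintype.card_fin] at hr
      rcases sq_eq_one_iff.1 hr with rfl | rfl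
      · left
        refine hφ (Subtype.ext (Subtype.ext ?_))
        rw [← hra, map_one]; simp
      · right
        refine hφ ?_
        rw [hneg']
        refine Subtype.ext (Subtype.ext ?_)
        rw [← hra, map_neg, map_one]; rfl
    refine le_antisymm (fun a ha => ?_) (fun a ha => ?_)
    · rcases hle a ha with rfl | rfl
      · exact one_mem _
      · exact negOne_mem_center
    · rw [Matrix.SpecialLinearGroup.mem_center_iff] at ha
      obtain ⟨r, hr, hra⟩ := ha
      rw [Fintype.card_fin] at hr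
      rw [MonoidHom.mem_ker]
      rcases sq_eq_one_iff.1 hr with rfl | rfl
      · rw [show a = 1 from Subtype.ext (by rw [← hra, map_one]; rfl), map_one]
      · rw [show a = Main.negOne (ZMod p) from Subtype.ext (by rw [← hra, map_neg, map_one]; rfl)]
        show f (φ (Main.negOne (ZMod p))) = 1
        rw [hneg', hker]
        exact negOne_mem_center
  let ψ : Matrix.ProjectiveSpecialLinearGroup (Fin 2) (ZMod p) →* S :=
    (QuotientGroup.kerLift φ').comp (QuotientGroup.quotientMulEquivOfEq hkerφ.symm).toMonoidHom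
  have hψ : Function.Injective ψ :=
    (QuotientGroup.kerLift_injective φ').comp (MulEquiv.injective _)
  set c := Nat.card (Matrix.ProjectiveSpecialLinearGroup (Fin 2) (ZMod p)) with hc
  have hSL : 2 * c = p * ((p - 1) * (p + 1)) := by
    have h := Classical.Linear.natCard_PSL_mul_center (n := Fin 2) (F := ZMod p)
    rw [natCard_center_SL2 hp2 (ZMod p), Classical.GL2.natCard_SL_two, ZMod.card] at h
    exact h
  have hdvd : c ∣ Nat.card S := Subgroup.card_dvd_of_injective ψ hψ
  have hpos : 0 < Nat.card S := Nat.card_pos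
  by_cases heq : Nat.card S = c
  · left
    exact ⟨(MulEquiv.ofBijective ψ ((Nat.bijective_iff_injective_and_card ψ).2 ⟨hψ, heq.symm⟩)).symm⟩
  · right
    intro u hu hu1 i hi
    obtain ⟨w, hw⟩ := hf u
    set v := w ^ (p + 1) with hv
    have hfv : f v = u := by rw [hv, map_pow, hw, pow_succ, hu, one_mul]
    have hvp : v ^ p = 1 := by
      have h1 : f (w ^ p) = 1 := by rw [map_pow, hw, hu]
      have h2 : (w ^ p) ^ 2 = 1 := by
        have hc := (hker _).1 h1
        have := pow_card_eq_one' (x := (⟨_, hc⟩ : Subgroup.center SL(2, F)))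
        rw [natCard_center_SL2 hp2 F] at this
        exact Subtype.ext (by rw [Subgroup.coe_pow]; exact congrArg Subtype.val this)
      obtain ⟨t, ht⟩ : 2 ∣ p + 1 := by
        obtain ⟨t, ht⟩ := hp.out.odd_of_ne_two hp2; exact ⟨t + 1, by omega⟩
      rw [hv, ← pow_mul, mul_comm, pow_mul, ht, pow_mul, h2, one_pow]
    clear_value v
    have hv1 : v ≠ 1 := fun h => hu1 (by rw [← hfv, h, map_one])
    have hpg : IsPGroup p (Subgroup.zpowers v) := IsPGroup.of_card (n := 1) (by
      rw [Nat.card_zpowers, pow_one, orderOf_eq_prime hvp hv1])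
    obtain ⟨Q, hQ⟩ := hpg.exists_le_sylow
    have hvQ : v ∈ Q := hQ (Subgroup.mem_zpowers v)
    obtain ⟨d, hcard, hdle, hC, hN⟩ := hnorm Q v hvQ hv1
    have hd : d = p - 1 := by
      obtain ⟨e, he⟩ := hdvd
      have he2 : 2 ≤ e := by
        rcases e with _ | _ | e
        · rw [he, mul_zero] at hpos; omega
        · exact absurd (by simpa using he) heq
        · omega
      rw [hcardH, he] at hcard
      have h3 : (p + 1) * (2 * p * (p - 1)) ≤ (p + 1) * (2 * p * d) := by
        rw [← hcard, ← mul_assoc 2 c e, hSL]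
        calc (p + 1) * (2 * p * (p - 1)) = p * ((p - 1) * (p + 1)) * 2 := by ring
          _ ≤ p * ((p - 1) * (p + 1)) * e := Nat.mul_le_mul_left _ he2
      have h4 := Nat.le_of_mul_le_mul_left (Nat.le_of_mul_le_mul_left h3 (by omega)) (by omega)
      omega
    set A := Subgroup.centralizer ({v} : Set H)
    set N := Subgroup.normalizer ((Q : Subgroup H) : Set H)
    have hAN : A ≤ N := by
      obtain ⟨ι, hι, -, -⟩ := key Q
      show A ≤ Subgroup.normalizer ((Q : Subgroup H) : Set H)
      rw [← Borel.normalizer_centralizer p hι hp2 hvQ hv1]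
      exact Subgroup.le_normalizer
    have hidx : (A.subgroupOf N).index = p - 1 := by
      have h := Subgroup.card_mul_index (A.subgroupOf N)
      rw [Nat.card_congr (Subgroup.subgroupOfEquivOfLe hAN).toEquiv, hC, hN, hd] at h
      exact Nat.eq_of_mul_eq_mul_left (by omega) h
    let F' : Option (N ⧸ A.subgroupOf N) → (Q : Subgroup H) := fun o =>
      o.elim 1 fun q => ⟨(q.out : H) * v * (q.out : H)⁻¹, (Subgroup.mem_normalizer_iff.1 q.out.2 v).1 hvQ⟩
    have hinj : Function.Injective F' := by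
      intro a b h
      rcases a with _ | a <;> rcases b with _ | b
      · rfl
      · exact absurd (congrArg Subtype.val h).symm (fun e => hv1 (conj_eq_one_iff.1 e))
      · exact absurd (congrArg Subtype.val h) (fun e => hv1 (conj_eq_one_iff.1 e))
      · have h' : (a.out : H) * v * (a.out : H)⁻¹ = (b.out : H) * v * (b.out : H)⁻¹ := congrArg Subtype.val h
        refine congrArg some ?_
        rw [← QuotientGroup.out_eq' a, ← QuotientGroup.out_eq' b, QuotientGroup.eq, Subgroup.mem_subgroupOf,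
          Subgroup.mem_centralizer_singleton_iff]
        simp only [Subgroup.coe_mul, Subgroup.coe_inv]
        calc (a.out : H)⁻¹ * b.out * v = (a.out : H)⁻¹ * ((b.out : H) * v * (b.out : H)⁻¹) * b.out := by group
          _ = (a.out : H)⁻¹ * ((a.out : H) * v * (a.out : H)⁻¹) * b.out := by rw [h']
          _ = _ := by group
    have hQc : Nat.card (Q : Subgroup H) = p := (Nat.card_congr (Q.equiv P).toEquiv).trans hPcard
    have hsurj := ((Nat.bijective_iff_injective_and_card F').2 ⟨hinj, by
      rw [Finite.card_option, hQc, show Nat.card (N ⧸ A.subgroupOf N) = p - 1 from hidx]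
      have := hp.out.one_lt; omega⟩).2
    obtain ⟨o, ho⟩ := hsurj ⟨v ^ i, pow_mem hvQ i⟩
    rcases o with _ | q
    · exfalso
      have h1 : v ^ i = 1 := (congrArg Subtype.val ho).symm
      exact hi ((orderOf_eq_prime hvp hv1) ▸ orderOf_dvd_iff_pow_eq_one.2 h1)
    · have h1 : (q.out : H) * v * (q.out : H)⁻¹ = v ^ i := congrArg Subtype.val ho
      have h2 := congrArg f h1
      rw [map_mul, map_mul, map_inv, map_pow, hfv] at h2
      exact isConj_iff.2 ⟨f (q.out : H), h2⟩

end Cfsg.Agent.BlocksChars.HalfDegree
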