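import Mathlib

/-!
# Half degree: isometries of a three-dimensional space and fractional linear maps
-/

set_option autoImplicit false
set_option linter.style.haveILetI false
set_option linter.unusedSectionVars false

namespace Cfsg.Agent.BlocksChars.HalfDegree

open Matrix

universe u v w₁

variable {k : Type u} [Field k]

/-- The standard quadratic form in three variables. -/
def Q3 (v : Fin 3 → k) : k := v 1 ^ 2 - 2 * v 0 * v 2

/-- Traceless matrices as a three-dimensional space. -/
def sl2Mat : (Fin 3 → k) →ₗ[k] Matrix (Fin 2) (Fin 2) k where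
  toFun v := !![v 1, v 0; -2 * v 2, -(v 1)]
  map_add' v w := by
    ext i j; fin_cases i <;> fin_cases j <;> simp <;> ring
  map_smul' c v := by
    ext i j; fin_cases i <;> fin_cases j <;> simp <;> ring

theorem sl2Mat_apply (v : Fin 3 → k) : sl2Mat v = !![v 1, v 0; -2 * v 2, -(v 1)] := rfl

theorem det_sl2Mat (v : Fin 3 → k) : (sl2Mat v).det = -Q3 v := by
  simp [sl2Mat_apply, det_fin_two, Q3]; ring

theorem trace_sl2Mat (v : Fin 3 → k) : (sl2Mat v).trace = 0 := by
  simp [sl2Mat_apply, trace_fin_two]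

theorem sl2Mat_injective (h2 : (2 : k) ≠ 0) : Function.Injective (sl2Mat (k := k)) := by
  intro v w h
  have h00 := congrFun (congrFun h 0) 0
  have h01 := congrFun (congrFun h 0) 1
  have h10 := congrFun (congrFun h 1) 0
  simp only [sl2Mat_apply, of_apply, cons_val', cons_val_zero, cons_val_one] at h00 h01 h10
  funext i
  fin_cases i
  · exact h01
  · exact h00
  · exact mul_left_cancel₀ (neg_ne_zero.2 h2) h10

/-- The standard vectors. -/
abbrev e3 (i : Fin 3) : Fin 3 → k := Pi.single i 1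

theorem conj_normalized (h2 : (2 : k) ≠ 0) (Ψ : (Fin 3 → k) →ₗ[k] Matrix (Fin 2) (Fin 2) k)
    (htr : ∀ v, (Ψ v).trace = 0) (hdet : ∀ v, (Ψ v).det = -Q3 v)
    (h0 : Ψ (e3 0) = !![0, 1; 0, 0]) :
    ∃ P : Matrix (Fin 2) (Fin 2) k, P.det ≠ 0 ∧ ∃ ε : k, ε * ε = 1 ∧
      ∀ v, Ψ v * P = ε • (P * sl2Mat v) := by
  set M := Ψ (e3 1) with hM
  set N := Ψ (e3 2) with hN
  have tM : M 1 1 = -M 0 0 := by
    have := htr (e3 1); rw [← hM, trace_fin_two] at this; linear_combination this
  have tN : N 1 1 = -N 0 0 := by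
    have := htr (e3 2); rw [← hN, trace_fin_two] at this; linear_combination this
  have dM := hdet (e3 1)
  rw [← hM, det_fin_two, tM] at dM
  have dN := hdet (e3 2)
  rw [← hN, det_fin_two, tN] at dN
  have d01 := hdet (e3 0 + e3 1)
  rw [map_add, h0, ← hM, det_fin_two] at d01
  have d02 := hdet (e3 0 + e3 2)
  rw [map_add, h0, ← hN, det_fin_two] at d02
  have d12 := hdet (e3 1 + e3 2)
  rw [map_add, ← hM, ← hN, det_fin_two] at d12
  simp [Q3, e3, tM, tN] at dM dN d01 d02 d12
  set a := M 0 0 with ha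
  set d := N 0 0 with hd
  have hc : M 1 0 = 0 := by linear_combination dM - d01
  have haa : a * a = 1 := by linear_combination -dM - (M 0 1) * hc
  have hg : N 1 0 = -2 := by linear_combination dN - d02
  have he : 2 * N 0 1 = d * d := by linear_combination (N 0 1) * hg + dN
  have hb : M 0 1 = a * d := by
    have : 2 * M 0 1 = 2 * (a * d) := by
      linear_combination d12 - dM - dN + (N 0 1) * hc + (M 0 1) * hg
    exact mul_left_cancel₀ h2 this
  refine ⟨!![a, -d / 2; 0, 1], ?_, a, haa, ?_⟩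
  · have : a ≠ 0 := fun h => by simp [h] at haa
    simpa [det_fin_two] using this
  have hMe : M = !![a, a * d; 0, -a] := by
    ext i j; fin_cases i <;> fin_cases j <;> simp [ha, hc, tM]
    rw [hb, ha]
  have hNe : N = !![d, d * d / 2; -2, -d] := by
    ext i j; fin_cases i <;> fin_cases j <;> simp [hd, hg, tN]
    field_simp
    linear_combination he
  have key : (LinearMap.mulRight k (!![a, -d / 2; 0, 1] : Matrix (Fin 2) (Fin 2) k)).comp Ψ =
      a • (LinearMap.mulLeft k (!![a, -d / 2; 0, 1] : Matrix (Fin 2) (Fin 2) k)).comp sl2Mat := by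
    refine (Pi.basisFun k (Fin 3)).ext fun i => ?_
    rw [Pi.basisFun_apply]
    simp only [LinearMap.comp_apply, LinearMap.mulRight_apply, LinearMap.smul_apply,
      LinearMap.mulLeft_apply]
    have hi : ∀ j : Fin 3, j = 0 ∨ j = 1 ∨ j = 2 := by decide
    rcases hi i with rfl | rfl | rfl
    · rw [h0]
      ext r s; fin_cases r <;> fin_cases s <;> simp [sl2Mat_apply, haa]
    · rw [← hM, hMe]
      ext r s; fin_cases r <;> fin_cases s <;> simp [sl2Mat_apply] <;> field_simp <;> ring
    · rw [← hN, hNe]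
      ext r s; fin_cases r <;> fin_cases s <;> simp [sl2Mat_apply] <;> field_simp <;> ring
  exact fun v => LinearMap.congr_fun key v

theorem exists_conj (h2 : (2 : k) ≠ 0) (φ : (Fin 3 → k) →ₗ[k] (Fin 3 → k))
    (hinj : Function.Injective φ) (hQ : ∀ v, Q3 (φ v) = Q3 v) :
    ∃ A : Matrix (Fin 2) (Fin 2) k, A.det ≠ 0 ∧ ∃ ε : k, ε * ε = 1 ∧
      ∀ v, sl2Mat (φ v) * A = ε • (A * sl2Mat v) := by
  set N := sl2Mat (φ (e3 0)) with hN
  have tN : N 1 1 = -N 0 0 := by
    have := trace_sl2Mat (φ (e3 0)); rw [← hN, trace_fin_two] at this; linear_combination this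
  have dN := det_sl2Mat (φ (e3 0))
  rw [← hN, hQ, det_fin_two, tN] at dN
  simp [Q3, e3] at dN
  have hN0 : N ≠ 0 := fun h => by
    have h1 : φ (e3 0) = 0 := sl2Mat_injective h2 (h.trans (map_zero _).symm)
    have := congrFun (hinj (h1.trans (map_zero φ).symm)) 0
    simp [e3] at this
  obtain ⟨P, hP, hNP⟩ : ∃ P : Matrix (Fin 2) (Fin 2) k, P.det ≠ 0 ∧ N * P = P * !![0, 1; 0, 0] := by
    by_cases h10 : N 1 0 = 0
    · have h00 : N 0 0 = 0 := by
        have : N 0 0 * N 0 0 = 0 := by linear_combination -dN - (N 0 1) * h10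
        exact mul_self_eq_zero.1 this
      have h01 : N 0 1 ≠ 0 := fun h => hN0 (by
        ext i j; fin_cases i <;> fin_cases j <;> simp [h, h00, h10, tN])
      refine ⟨!![N 0 1, 0; 0, 1], by simpa [det_fin_two] using h01, ?_⟩
      ext i j; fin_cases i <;> fin_cases j <;> simp [mul_apply, Fin.sum_univ_two, h00, h10, tN]
    · refine ⟨!![N 0 0, 1; N 1 0, 0], by simpa [det_fin_two] using h10, ?_⟩
      ext i j; fin_cases i <;> fin_cases j <;> simp [mul_apply, Fin.sum_univ_two, tN]
      · linear_combination -dN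
      · ring
  have hu : IsUnit P.det := isUnit_iff_ne_zero.2 hP
  let Ψ : (Fin 3 → k) →ₗ[k] Matrix (Fin 2) (Fin 2) k :=
    ((LinearMap.mulLeft k P⁻¹).comp (LinearMap.mulRight k P)).comp (sl2Mat.comp φ)
  have hΨ : ∀ v, Ψ v = P⁻¹ * (sl2Mat (φ v) * P) := fun v => rfl
  obtain ⟨R, hR, ε, hε, hconj⟩ := conj_normalized h2 Ψ
    (fun v => by rw [hΨ, trace_mul_comm, mul_assoc, mul_nonsing_inv P hu, mul_one, trace_sl2Mat])
    (fun v => by rw [hΨ, det_mul, det_mul, mul_comm (sl2Mat (φ v)).det, ← mul_assoc,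
      det_nonsing_inv_mul_det P hu, one_mul, det_sl2Mat, hQ])
    (by rw [hΨ, ← hN, hNP, ← mul_assoc, nonsing_inv_mul P hu, one_mul])
  refine ⟨P * R, by rw [det_mul]; exact mul_ne_zero hP hR, ε, hε, fun v => ?_⟩
  have h1 : sl2Mat (φ v) * P = P * Ψ v := by rw [hΨ, mul_nonsing_inv_cancel_left P _ hu]
  rw [← mul_assoc, h1, mul_assoc, hconj, mul_smul_comm, mul_assoc]

variable {k' : Type v} [Field k'] [Algebra k k']

/-- Traceless matrices after extension of scalars. -/
noncomputable def sl2Mat' (v : Fin 3 → k) : Matrix (Fin 2) (Fin 2) k' :=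
  (algebraMap k k').mapMatrix (sl2Mat v)

theorem scalar_of_commute (h2 : (2 : k) ≠ 0) {C : Matrix (Fin 2) (Fin 2) k'} {η : k'}
    (hC : C ≠ 0) (h : ∀ v : Fin 3 → k, sl2Mat' v * C = η • (C * sl2Mat' v)) :
    η = 1 ∧ C = C 0 0 • 1 := by
  have h2' : (2 : k') ≠ 0 := by
    have := (map_ne_zero (algebraMap k k')).2 h2; rwa [map_ofNat] at this
  have d := h (e3 1)
  have e := h (e3 0)
  have f := h (e3 2)
  have d00 := congrFun (congrFun d 0) 0
  have e00 := congrFun (congrFun e 0) 0
  have e01 := congrFun (congrFun e 0) 1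
  have f00 := congrFun (congrFun f 0) 0
  simp [sl2Mat', sl2Mat_apply, mul_apply, Fin.sum_univ_two, map_ofNat] at d00 e00 e01 f00
  have hη : η ≠ 0 ∨ C 0 0 = 0 := by
    by_cases hη : η = 0
    · right; rw [hη, zero_mul] at d00; exact d00
    · exact Or.inl hη
  have h01 : C 0 1 = 0 := by
    rcases eq_or_ne η 0 with hη' | hη'
    · have d01 := congrFun (congrFun d 0) 1
      simpa [sl2Mat', sl2Mat_apply, mul_apply, Fin.sum_univ_two, map_ofNat, hη'] using d01
    · exact f00.resolve_left hη' |>.resolve_right h2'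
  have h00 : C 0 0 ≠ 0 := fun h0 => hC (by
    ext i j; fin_cases i <;> fin_cases j <;> simp [h0, h01, e00, e01])
  have h1 : η = 1 := mul_right_cancel₀ h00 (by rw [one_mul]; exact d00.symm)
  refine ⟨h1, ?_⟩
  ext i j; fin_cases i <;> fin_cases j <;> simp [h01, e00, e01, h1]

theorem sign_eq {ε : k} (h : ε * ε = 1) : ε = 1 ∨ ε = -1 := mul_self_eq_one_iff.1 h

theorem unique_conj (h2 : (2 : k) ≠ 0) {A B M : Matrix (Fin 2) (Fin 2) k'} {ε δ : k'}
    {Mv : (Fin 3 → k) → Matrix (Fin 2) (Fin 2) k'} (hA0 : A.det = 1) (hB0 : B.det = 1) (hδ : δ * δ = 1)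
    (hA : ∀ v, Mv v * A = ε • (A * sl2Mat' v)) (hB : ∀ v, Mv v * B = δ • (B * sl2Mat' v)) :
    ∃ c : k', A = c • B := by
  have hu : IsUnit B.det := by rw [hB0]; exact isUnit_one
  set C := B⁻¹ * A with hC
  have hBC : B * C = A := mul_nonsing_inv_cancel_left B A hu
  have hC0 : C ≠ 0 := fun h => by rw [h, mul_zero] at hBC; rw [← hBC] at hA0; simp at hA0
  have key : ∀ v : Fin 3 → k, sl2Mat' v * C = (δ * ε) • (C * sl2Mat' v) := fun v => by
    have h1 := hA v
    rw [← hBC, ← mul_assoc, hB, smul_mul_assoc, mul_assoc, mul_assoc B C] at h1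
    have h2 := congrArg (fun X => δ • (B⁻¹ * X)) h1
    simp only [mul_smul_comm, smul_smul, hδ, one_smul, nonsing_inv_mul_cancel_left B _ hu] at h2
    exact h2
  exact ⟨C 0 0, by rw [← hBC]; nth_rw 1 [(scalar_of_commute h2 hC0 key).2]; rw [mul_smul_comm, mul_one]⟩

/-- Lifts of an isometry. -/
def Lifts (φ : Module.End k (Fin 3 → k)) (A : Matrix.SpecialLinearGroup (Fin 2) k') : Prop :=
  ∃ ε : k', ε * ε = 1 ∧ ∀ v, sl2Mat' (φ v) * (A : Matrix (Fin 2) (Fin 2) k') =
    ε • ((A : Matrix (Fin 2) (Fin 2) k') * sl2Mat' v)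

theorem Lifts.mul {φ ψ : Module.End k (Fin 3 → k)} {A B : Matrix.SpecialLinearGroup (Fin 2) k'}
    (hA : Lifts φ A) (hB : Lifts ψ B) : Lifts (φ * ψ) (A * B) := by
  obtain ⟨ε, hε, hA⟩ := hA
  obtain ⟨δ, hδ, hB⟩ := hB
  refine ⟨ε * δ, by linear_combination δ * δ * hε + hδ, fun v => ?_⟩
  rw [Module.End.mul_apply, Matrix.SpecialLinearGroup.coe_mul, ← mul_assoc, hA, smul_mul_assoc, mul_assoc, hB,
    mul_smul_comm, smul_smul, mul_assoc]

theorem Lifts.mk_eq (h2 : (2 : k) ≠ 0) {φ : Module.End k (Fin 3 → k)}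
    {A B : Matrix.SpecialLinearGroup (Fin 2) k'} (hA : Lifts φ A) (hB : Lifts φ B) :
    (QuotientGroup.mk A : Matrix.SpecialLinearGroup (Fin 2) k' ⧸ Subgroup.center (Matrix.SpecialLinearGroup (Fin 2) k')) = QuotientGroup.mk B := by
  obtain ⟨ε, hε, hA⟩ := hA
  obtain ⟨δ, hδ, hB⟩ := hB
  obtain ⟨c, hc⟩ := unique_conj (M := 0) h2 A.det_coe B.det_coe hδ hA hB
  symm
  rw [QuotientGroup.eq, Matrix.SpecialLinearGroup.mem_center_iff]
  have hc2 : c ^ 2 = 1 := by
    have h := congrArg det hc
    rw [det_smul, A.det_coe, B.det_coe, Fintype.card_fin, mul_one] at h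
    exact h.symm
  refine ⟨c, by rwa [Fintype.card_fin], ?_⟩
  rw [Matrix.SpecialLinearGroup.coe_mul, Matrix.SpecialLinearGroup.coe_inv, hc, mul_smul_comm, adjugate_mul,
    B.det_coe, one_smul]
  rw [scalar_apply, smul_one_eq_diagonal]

theorem exists_lift (h2 : (2 : k) ≠ 0) (hsq : ∀ c : k, ∃ s : k', s ^ 2 = algebraMap k k' c)
    (φ : Module.End k (Fin 3 → k)) (hinj : Function.Injective φ) (hQ : ∀ v, Q3 (φ v) = Q3 v) :
    ∃ A : Matrix.SpecialLinearGroup (Fin 2) k', Lifts φ A := by
  obtain ⟨A, hA, ε, hε, hconj⟩ := exists_conj h2 φ hinj hQ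
  obtain ⟨s, hs⟩ := hsq A.det
  have hs0 : s ≠ 0 := fun h => by
    rw [h, zero_pow two_ne_zero] at hs; exact (map_ne_zero (algebraMap k k')).2 hA hs.symm
  refine ⟨⟨s⁻¹ • (algebraMap k k').mapMatrix A, ?_⟩, algebraMap k k' ε, by rw [← map_mul, hε, map_one],
    fun v => ?_⟩
  · rw [det_smul, ← RingHom.map_det, ← hs, Fintype.card_fin, ← mul_pow, inv_mul_cancel₀ hs0, one_pow]
  · show _ * (s⁻¹ • (algebraMap k k').mapMatrix A) = _ • ((s⁻¹ • (algebraMap k k').mapMatrix A) * _)
    rw [sl2Mat', sl2Mat', mul_smul_comm, ← map_mul, hconj, smul_mul_assoc, ← map_mul, smul_comm,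
      RingHom.mapMatrix_apply, RingHom.mapMatrix_apply, Matrix.map_smul' _ _ _ (map_mul _)]

/-- The projective representation of a group of isometries. -/
theorem exists_projective {G : Type w₁} [Group G] (h2 : (2 : k) ≠ 0)
    (hsq : ∀ c : k, ∃ s : k', s ^ 2 = algebraMap k k' c)
    (σ : G →* Module.End k (Fin 3 → k)) (hQ : ∀ g v, Q3 (σ g v) = Q3 v) :
    ∃ Φ : G →* Matrix.SpecialLinearGroup (Fin 2) k' ⧸ Subgroup.center (Matrix.SpecialLinearGroup (Fin 2) k'),
      ∀ g, Φ g = 1 → σ g = 1 ∨ σ g = -1 := by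
  have hinj : ∀ g, Function.Injective (σ g) := fun g =>
    Function.LeftInverse.injective (g := σ g⁻¹) fun v => by
      rw [← Module.End.mul_apply, ← map_mul, inv_mul_cancel, map_one]; rfl
  choose A hA using fun g => exists_lift (k' := k') h2 hsq (σ g) (hinj g) (hQ g)
  refine ⟨MonoidHom.mk' (fun g => QuotientGroup.mk (A g)) fun g h => ?_, fun g hg => ?_⟩
  · rw [← QuotientGroup.mk_mul]
    exact Lifts.mk_eq h2 (hA (g * h)) (by rw [map_mul]; exact (hA g).mul (hA h))
  · change (QuotientGroup.mk (A g) = (1 : Matrix.SpecialLinearGroup (Fin 2) k' ⧸ Subgroup.center (Matrix.SpecialLinearGroup (Fin 2) k'))) at hg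
    rw [QuotientGroup.eq_one_iff, Matrix.SpecialLinearGroup.mem_center_iff] at hg
    obtain ⟨r, hr, hrA⟩ := hg
    obtain ⟨ε, hε, h⟩ := hA g
    have hr0 : r ≠ 0 := fun h0 => by simp [h0] at hr
    have hv : ∀ v, sl2Mat' (σ g v) = ε • sl2Mat' (k' := k') v := fun v => by
      have h1 := h v
      rw [← hrA, scalar_apply, ← smul_one_eq_diagonal, mul_smul_comm, mul_one, smul_mul_assoc, one_mul,
        smul_comm] at h1
      exact smul_right_injective _ hr0 h1
    have hmap : Function.Injective (fun v : Fin 3 → k => sl2Mat' (k' := k') v) :=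
      (Matrix.map_injective (algebraMap k k').injective).comp (sl2Mat_injective h2)
    rcases mul_self_eq_one_iff.1 hε with rfl | rfl
    · left
      exact LinearMap.ext fun v => hmap (by simpa using hv v)
    · right
      refine LinearMap.ext fun v => hmap ?_
      show sl2Mat' (σ g v) = sl2Mat' (-v)
      rw [hv, sl2Mat', sl2Mat', map_neg, map_neg, neg_one_smul]

/-- A three-dimensional space with a nondegenerate form and a regular unipotent isometry. -/
theorem exists_coord {W : Type v} [AddCommGroup W] [Module k W] (h2 : (2 : k) ≠ 0)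
    (hW : Module.finrank k W = 3) (B : W →ₗ[k] W →ₗ[k] k) (hB : ∀ v w, B v w = B w v)
    (hnd : ∀ v, (∀ w, B v w = 0) → v = 0) (X : Module.End k W) (hX : ∀ v w, B (X v) (X w) = B v w)
    (h3 : (X - 1) ^ 3 = 0) (hsq : ∃ m, ((X - 1) ^ 2 : Module.End k W) m ≠ 0) :
    ∃ (c : k) (e : (Fin 3 → k) ≃ₗ[k] W), c ≠ 0 ∧ ∀ v, B (e v) (e v) = c * Q3 v := by
  obtain ⟨m, hm⟩ := hsq
  set Δ := X - 1 with hΔ
  set g := Δ m with hg
  set a := Δ g with ha
  have hm2 : a ≠ 0 := by rwa [pow_two] at hm
  have hΔa : Δ a = 0 := by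
    have := LinearMap.congr_fun h3 m
    rwa [pow_succ', pow_two] at this
  have hiso : ∀ v w, B (Δ v) w + B v (Δ w) + B (Δ v) (Δ w) = 0 := fun v w => by
    have h := hX v w
    have hv : ∀ z, X z = z + Δ z := fun z => by simp [hΔ]
    rw [hv v, hv w] at h
    simp only [map_add, LinearMap.add_apply] at h
    linear_combination h
  have hav : ∀ w, B a (Δ w) = 0 := fun w => by
    simpa [hΔa] using hiso a w
  have haa : B a a = 0 := hav g
  have hag : B a g = 0 := hav m
  have h1 := hiso g m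
  rw [← ha, ← hg, hag, add_zero] at h1
  have h0 := hiso m m
  rw [← hg, hB m g] at h0
  have hli : LinearIndependent k ![a, g, m] := by
    rw [Fintype.linearIndependent_iff]
    intro t ht
    simp only [Fin.sum_univ_three, cons_val_zero, cons_val_one, cons_val_two, head_cons, tail_cons] at ht
    have t1 := congrArg Δ ht
    simp only [map_add, map_smul, map_zero, hΔa, ← ha, ← hg, smul_zero, zero_add] at t1
    have t2 := congrArg Δ t1
    simp only [map_add, map_smul, map_zero, hΔa, ← ha, smul_zero, zero_add] at t2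
    have e2 : t 2 = 0 := (smul_eq_zero.1 t2).resolve_right hm2
    rw [e2, zero_smul, add_zero] at t1
    have e1 : t 1 = 0 := (smul_eq_zero.1 t1).resolve_right hm2
    rw [e1, e2, zero_smul, zero_smul, add_zero, add_zero] at ht
    intro i
    fin_cases i
    · exact (smul_eq_zero.1 ht).resolve_right hm2
    · exact e1
    · exact e2
  let b := basisOfLinearIndependentOfCardEqFinrank hli (by rw [Fintype.card_fin, hW])
  have ham : B a m ≠ 0 := by
    intro h
    refine hm2 (hnd a fun w => ?_)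
    have : B a = 0 := b.ext fun i => by
      rw [coe_basisOfLinearIndependentOfCardEqFinrank]
      fin_cases i <;> simp [haa, hag, h]
    rw [this]; rfl
  set c := B g g with hc
  have hc' : c = -B a m := by linear_combination h1
  have hc0 : c ≠ 0 := by rw [hc']; exact neg_ne_zero.2 ham
  have hgm : 2 * B g m = -c := by linear_combination h0
  set α := (B m m + 2⁻¹ * 2 * B g m + (2⁻¹) ^ 2 * c) / (2 * c) with hα
  set f := m + α • a + (2⁻¹ : k) • g with hf
  have hgf : B g f = 0 := by
    rw [hf]; simp only [map_add, map_smul, smul_eq_mul, hB g a, hag, ← hc]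
    field_simp
    linear_combination hgm
  have haf : B a f = -c := by
    rw [hf]; simp only [map_add, map_smul, smul_eq_mul, haa, hag]
    linear_combination hc'
  have hff : B f f = 0 := by
    rw [hf]
    simp only [map_add, map_smul, LinearMap.add_apply, LinearMap.smul_apply, smul_eq_mul, hB m a, hB m g,
      hB g a, haa, hag, ← hc]
    rw [show B a m = -c by linear_combination hc', hα]
    field_simp
    ring
  have hli' : LinearIndependent k ![a, g, f] := by
    rw [Fintype.linearIndependent_iff]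
    intro t ht
    simp only [Fin.sum_univ_three, cons_val_zero, cons_val_one, cons_val_two, head_cons, tail_cons] at ht
    have hA : B a (t 0 • a + t 1 • g + t 2 • f) = 0 := by rw [ht, map_zero]
    have hG : B g (t 0 • a + t 1 • g + t 2 • f) = 0 := by rw [ht, map_zero]
    have hF : B f (t 0 • a + t 1 • g + t 2 • f) = 0 := by rw [ht, map_zero]
    simp only [map_add, map_smul, smul_eq_mul, haa, hag, haf, hB g a, hgf, ← hc, hB f a, hB f g, hff] at hA hG hF
    intro i
    fin_cases i
    · simpa [hc0] using hF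
    · simpa [hc0] using hG
    · simpa [hc0] using hA
  let b' := basisOfLinearIndependentOfCardEqFinrank hli' (by rw [Fintype.card_fin, hW])
  refine ⟨c, b'.equivFun.symm, hc0, fun v => ?_⟩
  rw [Module.Basis.equivFun_symm_apply, Fin.sum_univ_three]
  simp only [b', coe_basisOfLinearIndependentOfCardEqFinrank, cons_val_zero, cons_val_one, cons_val_two,
    head_cons, tail_cons, map_add, map_smul, LinearMap.add_apply, LinearMap.smul_apply, smul_eq_mul, haa,
    hag, haf, hB g a, hgf, ← hc, hB f a, hB f g, hff, Q3]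
  ring

end Cfsg.Agent.BlocksChars.HalfDegree
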