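import Cfsg.Agent.Lib.Blocks.PrimeBlock.LocalRealize
import Cfsg.Agent.BlockCharsA.DefectZeroVanish

/-!
# Half degree: reduction of a faithful character modulo `p`
-/

set_option autoImplicit false
set_option linter.style.haveILetI false
set_option linter.unusedSectionVars false

namespace Cfsg.Agent.BlocksChars.HalfDegree

open Module Cfsg.Agent.Characters Cfsg.Agent.Blocks Cfsg.Agent.Blocks.PrimeBlock

universe u

variable {p : ℕ} {M : Ideal Cfsg.AlgInt}

/-- A character is afforded by matrices over a principal local cyclotomic ring. -/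
theorem exists_rep_pid (hM : Cfsg.IsPModular p M) {Q : Type u} [Group Q] [Finite Q] {χ : Q → ℂ}
    (hχ : Cfsg.IsCharacter Q χ) {m : ℕ} (hm0 : m ≠ 0) (hpow : ∀ q : Q, q ^ m = 1) {η : ℂ}
    (hη : IsPrimitiveRoot η m) (hηi : IsIntegral ℤ η)
    [IsPrincipalIdealRing (cycLocal hM hηi)] :
    ∃ (d : ℕ) (V : Q →* Matrix (Fin d) (Fin d) (cycLocal hM hηi)),
      ∀ q, ((V q).trace : ℂ) = χ q := by
  classical
  haveI := Fintype.ofFinite Q
  set R := cycLocal hM hηi
  obtain ⟨n, τ, hτ⟩ := SplittingField.real_of_isCharacter hpow hm0 hη hχ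
  have halg : IsAlgebraic ℚ η := (hηi.tower_top (A := ℚ)).isAlgebraic
  let A : Q → Matrix (Fin n) (Fin n) ℂ := fun q =>
    (LinearMap.toMatrix' (τ q)).map fun z => (z : ℂ)
  have hA1 : A 1 = 1 := by
    simp only [A, map_one, LinearMap.toMatrix'_one]
    exact Matrix.map_one _ rfl rfl
  have hAmul : ∀ a b, A (a * b) = A a * A b := fun a b => by
    simp only [A, map_mul, LinearMap.toMatrix'_mul]
    exact Matrix.map_mul (f := (algebraMap (IntermediateField.adjoin ℚ ({η} : Set ℂ)) ℂ))
  have hAtr : ∀ q, (A q).trace = χ q := fun q => by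
    rw [← hτ q]
    show (((LinearMap.toMatrix' (τ q)).map _).trace : ℂ) = _
    rw [Representation.character, LinearMap.trace_eq_matrix_trace _ (Pi.basisFun _ (Fin n)),
      LinearMap.toMatrix_eq_toMatrix']
    exact (AddMonoidHom.map_trace (algebraMap
      (IntermediateField.adjoin ℚ ({η} : Set ℂ)) ℂ).toAddMonoidHom _).symm
  -- common denominator
  have hN : ∀ x : Q × Fin n × Fin n, ∃ N : ℕ, N ≠ 0 ∧ (N : ℂ) * A x.1 x.2.1 x.2.2 ∈ cycAlg η :=
    fun x => exists_denom halg (LinearMap.toMatrix' (τ x.1) x.2.1 x.2.2).2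
  choose N hN0 hN using hN
  set D := ∏ x, N x
  have hD0 : (D : ℂ) ≠ 0 := Nat.cast_ne_zero.2 (Finset.prod_ne_zero_iff.2 fun x _ => hN0 x)
  have hD : ∀ q i j, (D : ℂ) * A q i j ∈ R := fun q i j => by
    obtain ⟨c, hc⟩ : N (q, i, j) ∣ D := Finset.dvd_prod_of_mem _ (Finset.mem_univ (q, i, j))
    rw [hc, Nat.cast_mul, mul_right_comm, mul_comm]
    exact mul_mem (natCast_mem _ _) (mem_cycLocal hM hηi (hN (q, i, j)))
  let vec : Q × Fin n → Fin n → R := fun x i => ⟨_, hD x.1 i x.2⟩
  let W : Submodule R (Fin n → R) := Submodule.span R (Set.range vec)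
  obtain ⟨r, b⟩ := Submodule.basisOfPid (Pi.basisFun R (Fin n)) W
  let P : Matrix (Fin n) (Fin r) ℂ := fun i j => ((b j : Fin n → R) i : ℂ)
  have hP : ∀ w : W, ∀ i, ((w : Fin n → R) i : ℂ) = ∑ j, P i j * (b.repr w j : ℂ) := fun w i => by
    conv_lhs => rw [← b.sum_repr w]
    simp only [Finset.sum_apply, Submodule.coe_smul, Pi.smul_apply, smul_eq_mul,
      AddSubmonoidClass.coe_finsetSum, Subring.coe_mul, P]
    exact Finset.sum_congr rfl fun j _ => mul_comm _ _
  -- the columns span
  let Pinv : Matrix (Fin r) (Fin n) ℂ := fun j k =>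
    (D : ℂ)⁻¹ * (b.repr ⟨vec (1, k), Submodule.subset_span ⟨(1, k), rfl⟩⟩ j : ℂ)
  have hPP : P * Pinv = 1 := by
    ext i k
    rw [Matrix.mul_apply]
    calc ∑ j, P i j * Pinv j k = (D : ℂ)⁻¹ *
          ∑ j, P i j * (b.repr ⟨vec (1, k), Submodule.subset_span ⟨(1, k), rfl⟩⟩ j : ℂ) := by
          rw [Finset.mul_sum]
          exact Finset.sum_congr rfl fun j _ => by simp only [Pinv]; ring
      _ = (D : ℂ)⁻¹ * ((D : ℂ) * A 1 i k) := by rw [← hP]
      _ = (1 : Matrix (Fin n) (Fin n) ℂ) i k := by rw [inv_mul_cancel_left₀ hD0, hA1]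
  have hr : r ≤ n := by
    have h1 := b.linearIndependent.map' W.subtype (Submodule.ker_subtype W)
    have h2 := h1.fintype_card_le_finrank
    simpa using h2
  have hr' : n ≤ r := by
    have h1 := (Matrix.rank_mul_le_left P Pinv).trans (Matrix.rank_le_width P)
    rwa [hPP, Matrix.rank_one, Fintype.card_fin] at h1
  obtain rfl : r = n := le_antisymm hr hr'
  have hPP' : Pinv * P = 1 := mul_eq_one_comm.1 hPP
  -- the lattice is invariant
  have hinv : ∀ q, ∀ w ∈ W, ∃ w' ∈ W, ∀ i, ((w' : Fin r → R) i : ℂ) = ∑ j, A q i j * (w j : ℂ) := by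
    intro q w hw
    induction hw using Submodule.span_induction with
    | mem x hx =>
      obtain ⟨⟨q', k⟩, rfl⟩ := hx
      refine ⟨vec (q * q', k), Submodule.subset_span ⟨_, rfl⟩, fun i => ?_⟩
      show (D : ℂ) * A (q * q') i k = ∑ j, A q i j * ((D : ℂ) * A q' j k)
      rw [hAmul, Matrix.mul_apply, Finset.mul_sum]
      exact Finset.sum_congr rfl fun j _ => by ring
    | zero => exact ⟨0, zero_mem _, fun i => by simp⟩
    | add x y _ _ hx hy =>
      obtain ⟨x', hx', hx''⟩ := hx
      obtain ⟨y', hy', hy''⟩ := hy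
      refine ⟨x' + y', add_mem hx' hy', fun i => ?_⟩
      simp [hx'', hy'', mul_add, Finset.sum_add_distrib]
    | smul c x _ hx =>
      obtain ⟨x', hx', hx''⟩ := hx
      refine ⟨c • x', Submodule.smul_mem _ c hx', fun i => ?_⟩
      simp only [Pi.smul_apply, smul_eq_mul, Subring.coe_mul, hx'', Finset.mul_sum]
      exact Finset.sum_congr rfl fun j _ => by ring
  choose w hwW hw using fun q j => hinv q (b j : Fin r → R) (b j).2
  let Vf : Q → Matrix (Fin r) (Fin r) R := fun q i j => b.repr ⟨w q j, hwW q j⟩ i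
  have hVf : ∀ q, A q * P = P * (Vf q).map (R.subtype) := fun q => by
    ext i j
    rw [Matrix.mul_apply, Matrix.mul_apply, ← hw q j i]
    exact hP ⟨w q j, hwW q j⟩ i
  have hcancel : ∀ X Y : Matrix (Fin r) (Fin r) R,
      P * X.map R.subtype = P * Y.map R.subtype → X = Y := fun X Y h => by
    have h1 := congrArg (Pinv * ·) h
    simp only [← Matrix.mul_assoc, hPP', Matrix.one_mul] at h1
    exact Matrix.map_injective Subtype.val_injective h1
  refine ⟨r, { toFun := Vf
               map_one' := hcancel _ _ ?_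
               map_mul' := fun a c => hcancel _ _ ?_ }, fun q => ?_⟩
  · rw [← hVf, hA1, Matrix.map_one _ (map_zero _) (map_one _), Matrix.one_mul, Matrix.mul_one]
  · rw [← hVf, hAmul, Matrix.map_mul, ← Matrix.mul_assoc P, ← hVf, Matrix.mul_assoc (A a),
      Matrix.mul_assoc (A a), hVf c]
  · show R.subtype (Vf q).trace = _
    refine (AddMonoidHom.map_trace R.subtype.toAddMonoidHom _).trans ?_
    rw [← hAtr]
    show ((Vf q).map R.subtype).trace = _
    calc ((Vf q).map R.subtype).trace = (Pinv * (P * (Vf q).map R.subtype)).trace := by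
          rw [← Matrix.mul_assoc, hPP', Matrix.one_mul]
      _ = (A q).trace := by
          rw [← hVf, Matrix.trace_mul_comm, Matrix.mul_assoc, hPP, Matrix.mul_one]

/-- A matrix of finite order prime to `p` that reduces to the identity is the identity. -/
theorem eq_one_of_reduce {R : Type*} [CommRing R] [IsLocalRing R] {d q : ℕ}
    (hq : IsUnit (q : R)) (A : Matrix (Fin d) (Fin d) R) (hA : A ^ q = 1)
    (hred : (IsLocalRing.residue R).mapMatrix A = 1) : A = 1 := by
  set S := ∑ i ∈ Finset.range q, A ^ i with hS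
  have h0 : (A - 1) * S = 0 := by rw [hS, mul_geom_sum, hA, sub_self]
  have hu : IsUnit S.det := by
    refine (isUnit_map_iff (IsLocalRing.residue R) _).1 ?_
    rw [RingHom.map_det, hS, map_sum, Finset.sum_congr rfl fun i _ => by rw [map_pow, hred, one_pow]]
    rw [Finset.sum_const, Finset.card_range, nsmul_one, ← map_natCast (algebraMap (IsLocalRing.ResidueField R)
      (Matrix (Fin d) (Fin d) (IsLocalRing.ResidueField R))), Matrix.algebraMap_eq_diagonal, Matrix.det_diagonal]
    refine IsUnit.prod_iff.2 fun i _ => ?_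
    simpa using hq.map (IsLocalRing.residue R)
  have h1 := congrArg (· * S⁻¹) h0
  simp only [mul_assoc, Matrix.mul_nonsing_inv _ hu, mul_one, zero_mul] at h1
  exact sub_eq_zero.1 h1

theorem exists_modular (hp : p.Prime) {G : Type u} [Group G] [Finite G] (hdiv : p ∣ Nat.card G)
    (hsq : ¬ p ^ 2 ∣ Nat.card G) (hnn : ∀ H : Subgroup G, H.Normal → Nat.card H ≠ p) {χ : G → ℂ}
    (hχ : Cfsg.IsCharacter G χ) (hfaith : ∀ g : G, χ g = χ 1 → g = 1) {n : ℕ} (hn : χ 1 = (n : ℂ)) :
    ∃ (k : Type) (_ : Field k), Finite k ∧ CharP k p ∧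
      ∃ ρ : G →* Matrix (Fin n) (Fin n) k, Function.Injective ρ := by
  classical
  haveI := Fact.mk hp
  obtain ⟨M, hM⟩ := Cfsg.Agent.BlockCharsA.DefectZeroVanish.exists_modular hp
  obtain ⟨m, hm⟩ := hdiv
  rw [mul_comm] at hm
  have hpm : ¬ p ∣ m := fun h => hsq (by rw [hm, pow_two]; exact Nat.mul_dvd_mul_right h p)
  have hm0 : m * p ≠ 0 := by rw [← hm]; exact Nat.card_pos.ne'
  obtain ⟨ξ, hξ⟩ : ∃ ξ : ℂ, IsPrimitiveRoot ξ (m * p) := ⟨_, Complex.isPrimitiveRoot_exp _ hm0⟩
  have hξi : IsIntegral ℤ ξ := hξ.isIntegral (Nat.pos_of_ne_zero hm0)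
  have hπ := exists_unif_ramified hM hpm hξ (fun _ => isIntegral_cycAlg hξi)
  haveI : IsPrincipalIdealRing (cycLocal hM hξi) := isPrincipalIdealRing_localSub hπ
  haveI : IsLocalRing (cycLocal hM hξi) := isLocalRing_localSub hM _ _
  obtain ⟨d, V, hV⟩ := exists_rep_pid hM hχ hm0 (fun g => by rw [← hm]; exact pow_card_eq_one') hξ hξi
  have hdn : d = n := by
    have h := hV 1
    rw [map_one, Matrix.trace_one, Fintype.card_fin, hn] at h
    exact_mod_cast h
  subst hdn
  have hVinj : ∀ g, V g = 1 → g = 1 := fun g hg => hfaith g (by rw [← hV, ← hV, hg, map_one])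
  let k := IsLocalRing.ResidueField (cycLocal hM hξi)
  let res := IsLocalRing.residue (cycLocal hM hξi)
  have hres : ∀ z : cycLocal hM hξi, res z = 0 ↔ Cfsg.MemLocalIdeal M (z : ℂ) := fun z => by
    rw [IsLocalRing.residue_eq_zero_iff, IsLocalRing.mem_maximalIdeal, mem_nonunits_iff]
    exact (not_congr (localSub_isUnit_iff hM _ _ z)).trans not_not
  have hpk : ((p : ℕ) : k) = 0 := by
    rw [← map_natCast res, hres]
    simpa using ideal_p hM
  haveI hchar : CharP k p := (CharP.charP_iff_prime_eq_zero hp).2 hpk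
  haveI hfin : Finite k := by
    obtain ⟨q, hq, hfr⟩ := hπ.frob
    have hroot : ∀ x : k, x ^ q = x := by
      have hA : ∀ a (ha : a ∈ cycAlg ξ), res ⟨a, mem_cycLocal hM hξi ha⟩ ^ q =
          res ⟨a, mem_cycLocal hM hξi ha⟩ := fun a ha => by
        rw [← map_pow, ← sub_eq_zero, ← map_sub, hres]
        obtain ⟨y, hy, he⟩ := hfr a ha
        show Cfsg.MemLocalIdeal M (a ^ q - a)
        rw [he]
        exact ideal_mul_right hM hπ.ideal (ring_of_isIntegral hM (isIntegral_cycAlg hξi hy))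
      intro x
      obtain ⟨z, rfl⟩ := IsLocalRing.residue_surjective x
      obtain ⟨a, ha, b, hb, hbM, he⟩ := (mem_localSub hM _ _).1 z.2
      have hzb : res z * res ⟨b, mem_cycLocal hM hξi hb⟩ = res ⟨a, mem_cycLocal hM hξi ha⟩ := by
        rw [← map_mul]
        congr 1
        exact Subtype.ext (by show (z : ℂ) * b = a; rw [he, div_mul_cancel₀ a (ne_zero_of_not_ideal hM hbM)])
      have hb0 : res ⟨b, mem_cycLocal hM hξi hb⟩ ≠ 0 := fun h => hbM ((hres _).1 h)
      have h := hA a ha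
      rw [← hzb, mul_pow, hA b hb] at h
      exact mul_right_cancel₀ hb0 h
    have hne : (Polynomial.X ^ q - Polynomial.X : Polynomial k) ≠ 0 :=
      FiniteField.X_pow_card_sub_X_ne_zero k hq
    refine Finite.of_injective (fun x : k => (⟨x, ?_⟩ : (Polynomial.X ^ q - Polynomial.X : Polynomial k).roots.toFinset))
      fun a b h => congrArg Subtype.val h
    rw [Multiset.mem_toFinset, Polynomial.mem_roots hne]
    simp [hroot x]
  let ρ : G →* Matrix (Fin d) (Fin d) k := (res.mapMatrix).toMonoidHom.comp V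
  refine ⟨k, inferInstance, hfin, hchar, ρ, ?_⟩
  let ρu := ρ.toHomUnits
  have hker : ρu.ker = ⊥ := by
    have hord : ∀ g ∈ ρu.ker, ∀ q : ℕ, q.Prime → q ∣ orderOf g → q = p := by
      intro g hg q hq hdvd
      by_contra hne
      set g' := g ^ (orderOf g / q)
      have ho : orderOf g' = q := by
        rw [orderOf_pow_orderOf_div (orderOf_pos g).ne' hdvd]
      have hg' : g' ∈ ρu.ker := pow_mem hg _
      have h1 : res.mapMatrix (V g') = 1 := congrArg Units.val (MonoidHom.mem_ker.1 hg')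
      have hu : IsUnit ((q : ℕ) : cycLocal hM hξi) := by
        refine IsLocalRing.residue_ne_zero_iff_isUnit _ |>.1 ?_
        rw [map_natCast, Ne, CharP.cast_eq_zero_iff k p]
        exact fun h => hne ((Nat.prime_dvd_prime_iff_eq hp hq).1 h).symm
      have h2 := eq_one_of_reduce hu (V g') (by rw [← map_pow, ← ho, pow_orderOf_eq_one, map_one]) h1
      rw [hVinj g' h2, orderOf_one] at ho
      exact hq.ne_one ho.symm
    have hpg : IsPGroup p ρu.ker := by
      intro g
      refine ⟨(orderOf (g : G)).primeFactorsList.length, Subtype.ext ?_⟩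
      rw [Subgroup.coe_pow, Subgroup.coe_one,
        ← Nat.eq_prime_pow_of_unique_prime_dvd (orderOf_pos (g : G)).ne' (fun {q} hq hd => hord g g.2 q hq hd)]
      exact pow_orderOf_eq_one _
    obtain ⟨j, hj⟩ := IsPGroup.iff_card.1 hpg
    have hd' : p ^ j ∣ Nat.card G := hj ▸ Subgroup.card_subgroup_dvd_card _
    have hj1 : j ≤ 1 := by
      by_contra h
      exact hsq ((pow_dvd_pow p (by omega : 2 ≤ j)).trans hd')
    interval_cases j
    · exact Subgroup.eq_bot_of_card_eq _ (by rw [hj, pow_zero])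
    · exact absurd (by rw [hj, pow_one]) (hnn ρu.ker inferInstance)
  intro a b hab
  exact (MonoidHom.ker_eq_bot_iff ρu).1 hker (Units.ext hab)

end Cfsg.Agent.BlocksChars.HalfDegree
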