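import Cfsg.Agent.BlocksChars.HalfDegree.Summand
import Cfsg.Agent.BlocksChars.HalfDegree.Conic
import Cfsg.Agent.BlocksChars.HalfDegree.Reduce
import Cfsg.Agent.BlocksChars.HalfDegree.Bound
import Cfsg.Agent.S4503
import Cfsg.Agent.GStructB.SmallDegreePSolvable
import Cfsg.Agent.Lib.Blocks.PrimeBlock.MatrixUnits

/-!
# Half degree: the quotient by the centre is `PSL(2,p)`
-/

set_option autoImplicit false
set_option linter.style.haveILetI false
set_option linter.unusedSectionVars false

namespace Cfsg.Agent.BlocksChars.HalfDegree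

open Cfsg.Agent.Characters
open scoped ComplexConjugate MatrixGroups

universe u

/-- A finite extension in which every element is a square. -/
theorem exists_sq_ext (k : Type) [Field k] [Finite k] :
    ∃ (F : Type) (_ : Field F) (_ : Algebra k F), Finite F ∧
      ∀ c : k, ∃ s : F, s ^ 2 = algebraMap k F c := by
  classical
  choose r hr using fun c : k =>
    IsAlgClosed.exists_pow_nat_eq (algebraMap k (AlgebraicClosure k) c) (n := 2) (by norm_num)
  let F := IntermediateField.adjoin k (Set.range r)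
  haveI : Finite (Set.range r) := Set.finite_range r
  haveI : FiniteDimensional k F := IntermediateField.finiteDimensional_adjoin fun y _ =>
    (Algebra.IsAlgebraic.isAlgebraic y).isIntegral
  haveI : Finite F := Module.finite_of_finite k
  exact ⟨F, inferInstance, inferInstance, inferInstance, fun c =>
    ⟨⟨r c, IntermediateField.subset_adjoin k _ ⟨c, rfl⟩⟩, Subtype.ext (hr c)⟩⟩

variable {G : Type u} [Group G] [Finite G] {p : ℕ} [hp : Fact p.Prime]

set_option maxSynthPendingDepth 3 in
/-- The projective representation in dimension two. -/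
theorem exists_psl_hom {k : Type} [Field k] [Finite k] [CharP k p] {n : ℕ}
    (ρ₀ : G →* Matrix (Fin n) (Fin n) k) (hinj : Function.Injective ρ₀) (hn : 2 * n < p)
    (P : Sylow p G) (hP : Nat.card (P : Subgroup G) = p) {x : G} (hx : x ∈ (P : Subgroup G)) (hx1 : x ≠ 1) :
    ∃ (F : Type) (_ : Field F) (_ : Fintype F) (_ : CharP F p)
      (Φ : G →* SL(2, F) ⧸ Subgroup.center SL(2, F)), Φ x ≠ 1 := by
  classical
  let ρ : G →* Module.End k (Fin n → k) :=
    (Matrix.toLinAlgEquiv' (R := k) (n := Fin n)).toAlgHom.toRingHom.toMonoidHom.comp ρ₀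
  have hρ : ρ x ≠ 1 := fun h => hx1 (hinj ((Matrix.toLinAlgEquiv' (R := k) (n := Fin n)).injective
    (show Matrix.toLinAlgEquiv' (ρ₀ x) = Matrix.toLinAlgEquiv' (ρ₀ 1) by
      rw [map_one, map_one]; exact h)))
  obtain ⟨M, hM⟩ := exists_summand P hP ρ hx hρ (by rwa [Module.finrank_fintype_fun_eq_card, Fintype.card_fin])
  have hp2 : p ≠ 2 := by
    rintro rfl
    obtain rfl : n = 0 := by omega
    exact hρ (LinearMap.ext fun v => Subsingleton.elim _ _)
  have h2 : (2 : k) ≠ 0 := by
    intro h2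
    have h' : ((2 : ℕ) : k) = 0 := by exact_mod_cast h2
    rw [CharP.cast_eq_zero_iff k p] at h'
    exact hp2 ((Nat.prime_dvd_prime_iff_eq hp.out Nat.prime_two).1 h')
  let σ : G →* Module.End k M :=
    { toFun := fun g => (adj ρ g).restrict (hM.stable g)
      map_one' := LinearMap.ext fun e => Subtype.ext (by rw [LinearMap.restrict_apply]; simp)
      map_mul' := fun g h => LinearMap.ext fun e => Subtype.ext (by
        rw [Module.End.mul_apply, LinearMap.restrict_apply, LinearMap.restrict_apply, LinearMap.restrict_apply]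
        exact LinearMap.congr_fun (map_mul (adj ρ) g h) _) }
  let B : M →ₗ[k] M →ₗ[k] k := LinearMap.mk₂ k (fun (a b : M) => tr ((a : Module.End k (Fin n → k)) * (b : Module.End k (Fin n → k))))
    (fun a b c => by simp [tr, add_mul]) (fun r a b => by simp [tr])
    (fun a b c => by simp [tr, mul_add]) (fun r a b => by simp [tr])
  have hBiso : ∀ g v w, B (σ g v) (σ g w) = B v w := fun g v w => by
    show tr (adj ρ g (v : Module.End k (Fin n → k)) * adj ρ g (w : Module.End k (Fin n → k))) = tr ((v : Module.End k (Fin n → k)) * (w : Module.End k (Fin n → k)))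
    rw [adj_isometry, adj_inv_adj]
  have hsub : ∀ v : M, (((σ x - 1 : Module.End k M) v : M) : Module.End k (Fin n → k)) = (adj ρ x - 1) (v : Module.End k (Fin n → k)) :=
    fun v => rfl
  have hpow : ∀ (i : ℕ) (v : M), (((σ x - 1) ^ i : Module.End k M) v : Module.End k (Fin n → k)) =
      ((adj ρ x - 1) ^ i : Module.End k (Module.End k (Fin n → k))) (v : Module.End k (Fin n → k)) := by
    intro i
    induction i with
    | zero => exact fun v => rfl
    | succ i ih => exact fun v => by rw [pow_succ', pow_succ', Module.End.mul_apply, Module.End.mul_apply, hsub, ih]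
  have h3 : (σ x - 1) ^ 3 = 0 := LinearMap.ext fun v => Subtype.ext (by
    rw [hpow]; exact hM.cube v v.2)
  have hsq : ∃ m, ((σ x - 1) ^ 2 : Module.End k M) m ≠ 0 := by
    obtain ⟨e, he, hne⟩ := hM.square
    exact ⟨⟨e, he⟩, fun h => hne (by rw [← hpow 2 ⟨e, he⟩, h]; rfl)⟩
  obtain ⟨c, e, hc, hce⟩ := exists_coord h2 hM.rank B
    (fun v w => tr_comm _ _) (fun v h => Subtype.ext (hM.nondeg v v.2 fun w hw => h ⟨w, hw⟩))
    (σ x) (hBiso x) h3 hsq
  let σ' : G →* Module.End k (Fin 3 → k) := e.symm.conjRingEquiv.toMonoidHom.comp σ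
  have hσ' : ∀ g v, σ' g v = e.symm (σ g (e v)) := fun g v => rfl
  have hQ : ∀ g v, Q3 (σ' g v) = Q3 v := fun g v => by
    refine mul_left_cancel₀ hc ?_
    rw [← hce, ← hce, hσ', e.apply_symm_apply, hBiso]
  obtain ⟨F, _, _, hF, hFsq⟩ := exists_sq_ext k
  haveI := Fintype.ofFinite F
  haveI : CharP F p := charP_of_injective_algebraMap (algebraMap k F).injective p
  obtain ⟨Φ, hΦ⟩ := exists_projective (k' := F) h2 hFsq σ' hQ
  refine ⟨F, inferInstance, inferInstance, inferInstance, Φ, fun h => ?_⟩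
  obtain ⟨m, hm⟩ := hsq
  rcases hΦ x h with h1 | h1
  · have : σ x = 1 := e.symm.conjRingEquiv.injective (h1.trans (map_one _).symm)
    rw [this, sub_self, zero_pow two_ne_zero] at hm
    exact hm rfl
  · have h' : σ x = -1 := e.symm.conjRingEquiv.injective
      (h1.trans (by rw [map_neg, map_one]))
    have h4 := LinearMap.congr_fun h3 m
    rw [h', show (-1 - 1 : Module.End k M) = (-2 : k) • (1 : Module.End k M) by
      rw [← one_add_one_eq_two, neg_add, add_smul, neg_smul, one_smul, sub_eq_add_neg],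
      smul_pow, one_pow] at h4
    have hm0 : m ≠ 0 := fun h0 => hm (by rw [h0, map_zero])
    exact hm0 ((smul_eq_zero.1 h4).resolve_left (pow_ne_zero _ (neg_ne_zero.2 h2)))

omit hp in
theorem isPSolvable_of_pPrime_pGroup {J : Type u} [Group J] [Finite J] (K : Subgroup J) [K.Normal]
    (hK : (Nat.card K).Coprime p) {m : ℕ} (hidx : K.index = p ^ m) : Cfsg.IsPSolvable p J := by
  refine ⟨2, ![⊥, K, ⊤], rfl, rfl, ?_, ?_, ?_⟩
  · refine Fin.monotone_iff_le_succ.2 fun i => ?_
    fin_cases i
    · exact bot_le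
    · exact le_top
  · intro i
    fin_cases i
    · exact Subgroup.normal_of_characteristic ⊥
    · exact (inferInstance : K.Normal)
    · exact Subgroup.normal_of_characteristic ⊤
  · intro i
    fin_cases i
    · right
      show ((⊥ : Subgroup J).relIndex K).Coprime p
      rwa [Subgroup.relIndex_bot_left]
    · left
      exact ⟨m, by show K.relIndex ⊤ = _; rw [Subgroup.relIndex_top_right, hidx]⟩

/-- In a `p`-solvable subgroup the Sylow subgroup is normal. -/
theorem sylow_normal_of_pSolvable {χ : G → ℂ} (hχ : Cfsg.IsCharacter G χ)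
    (hf : ∀ g : G, χ g = χ 1 → g = 1) {n : ℕ} (hn : χ 1 = (n : ℂ)) (hnp : n + 2 ≤ p)
    (J : Subgroup G) (hJ : Cfsg.IsPSolvable p J) (Q : Sylow p J) : (Q : Subgroup J).Normal := by
  by_contra hQ
  have := (GStructB.SmallDegreePSolvable.main (χ := fun y : J => χ y) (isCharacter_restrict J hχ)
    (fun y hy => Subtype.ext (hf y hy)) (n := n) (by simpa using hn) hJ (by omega) Q hQ).1
  omega

/-- The subgroup generated by the elements of order `p` is centralised by normal `p'`-subgroups. -/
theorem commute_of_pPrime {χ : G → ℂ} (hχ : Cfsg.IsCharacter G χ)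
    (hf : ∀ g : G, χ g = χ 1 → g = 1) {n : ℕ} (hn : χ 1 = (n : ℂ)) (hnp : n + 2 ≤ p)
    (hsq : ¬ p ^ 2 ∣ Nat.card G) (K : Subgroup G) [K.Normal] (hK : ¬ p ∣ Nat.card K) {g y : G}
    (hg : g ^ p = 1) (hy : y ∈ K) : Commute g y := by
  rcases eq_or_ne g 1 with rfl | hg1
  · exact Commute.one_left y
  set J := Subgroup.zpowers g ⊔ K with hJ
  set K' := K.subgroupOf J with hK'
  haveI : K'.Normal := Subgroup.Normal.subgroupOf inferInstance J
  have hKJ : K ≤ J := le_sup_right
  have hcard : Nat.card K' = Nat.card K := Nat.card_congr (Subgroup.subgroupOfEquivOfLe hKJ).toEquiv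
  have hpg : IsPGroup p (J ⧸ K') := by
    intro q
    obtain ⟨⟨j, hj⟩, rfl⟩ := QuotientGroup.mk'_surjective K' q
    obtain ⟨a, ha, b, hb, rfl⟩ := Subgroup.mem_sup_of_normal_right.1 hj
    refine ⟨1, ?_⟩
    have hamem : a ∈ J := Subgroup.mem_sup_left ha
    have e : QuotientGroup.mk' K' ⟨a * b, hj⟩ = QuotientGroup.mk' K' ⟨a, hamem⟩ := by
      rw [QuotientGroup.mk'_apply, QuotientGroup.mk'_apply, QuotientGroup.eq, Subgroup.mem_subgroupOf]
      simpa using inv_mem hb
    rw [pow_one, e, ← map_pow]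
    obtain ⟨i, rfl⟩ := ha
    have : (⟨g ^ i, hamem⟩ : J) ^ p = 1 := Subtype.ext (by
      show (g ^ i) ^ p = 1
      rw [← zpow_natCast, ← zpow_mul, mul_comm, zpow_mul, zpow_natCast, hg, one_zpow])
    rw [this, map_one]
  obtain ⟨m, hm⟩ := IsPGroup.iff_card.1 hpg
  have hsolv : Cfsg.IsPSolvable p J := isPSolvable_of_pPrime_pGroup K'
    (by rw [hcard]; exact (hp.out.coprime_iff_not_dvd.2 hK).symm) (m := m) hm
  have hgJ : g ∈ J := Subgroup.mem_sup_left (Subgroup.mem_zpowers g)
  have hog : orderOf g = p := orderOf_eq_prime hg hg1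
  have hQp : IsPGroup p (Subgroup.zpowers (⟨g, hgJ⟩ : J)) := IsPGroup.of_card (n := 1) (by
    rw [Nat.card_zpowers, Subgroup.orderOf_mk, hog, pow_one])
  obtain ⟨Q, hQ⟩ := hQp.exists_le_sylow
  have hQn := sylow_normal_of_pSolvable hχ hf hn hnp J hsolv Q
  have hdisj : Disjoint (Q : Subgroup J) K' := disjoint_iff.2 (Subgroup.inf_eq_bot_of_coprime (by
    obtain ⟨i, hi⟩ := IsPGroup.iff_card.1 Q.isPGroup'
    rw [hi, hcard]
    exact Nat.Coprime.pow_left i (hp.out.coprime_iff_not_dvd.2 hK)))
  have h := Subgroup.commute_of_normal_of_disjoint _ _ hQn inferInstance hdisj ⟨g, hgJ⟩ ⟨y, hKJ hy⟩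
    (hQ (Subgroup.mem_zpowers _)) (Subgroup.mem_subgroupOf.2 hy)
  exact congrArg Subtype.val h

/-- Elements centralising all elements of order `p` are central. -/
theorem mem_center_of_commute {χ : G → ℂ} (hχ : Cfsg.IsCharacter G χ)
    (hf : ∀ g : G, χ g = χ 1 → g = 1) {n : ℕ} (hn : χ 1 = (n : ℂ)) (hpn : p = 2 * n + 1) (hn2 : 2 ≤ n)
    (hsq : ¬ p ^ 2 ∣ Nat.card G) (hdiv : p ∣ Nat.card G)
    (hnn : ∀ H : Subgroup G, H.Normal → Nat.card H ≠ p) {y : G}
    (hy : ∀ g : G, g ^ p = 1 → Commute g y) : y ∈ Subgroup.center G := by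
  classical
  set L := Subgroup.closure {g : G | g ^ p = 1} with hL
  haveI := Fintype.ofFinite L
  haveI := Fintype.ofFinite (Cfsg.IrrCharacter L)
  have hcomm : ∀ l ∈ L, Commute l y := fun l hl => by
    refine Subgroup.closure_induction (k := {g : G | g ^ p = 1}) (p := fun l _ => Commute l y)
      ?_ (Commute.one_left y) ?_ ?_ hl
    · exact fun g hg => hy g hg
    · exact fun a b _ _ ha hb => ha.mul_left hb
    · exact fun a _ ha => ha.inv_left
  have hres : Cfsg.IsCharacter L (fun l : L => χ l) := isCharacter_restrict L hχ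
  obtain ⟨m, hm⟩ := char_eq_sum_nat hres
  choose d hd0 hd using fun ψ : Cfsg.IrrCharacter L => irr_one_pos ψ.2
  have hsum : n = ∑ ψ : Cfsg.IrrCharacter L, m ψ * d ψ := by
    apply Nat.cast_injective (R := ℂ)
    rw [← hn]
    have h1 := congrFun hm (1 : L)
    simp only [Finset.sum_apply, Pi.smul_apply, smul_eq_mul, OneMemClass.coe_one] at h1
    rw [h1]; push_cast
    exact Finset.sum_congr rfl fun ψ _ => by rw [hd]
  obtain ⟨g₀, hg₀⟩ := exists_prime_orderOf_dvd_card' (G := G) p hdiv
  have hg₀L : g₀ ∈ L := Subgroup.subset_closure (show g₀ ^ p = 1 by rw [← hg₀, pow_orderOf_eq_one])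
  -- a nontrivial constituent
  obtain ⟨θ, hθm, hθne⟩ : ∃ θ : Cfsg.IrrCharacter L, m θ ≠ 0 ∧ ∃ l, (θ : L → ℂ) l ≠ (θ : L → ℂ) 1 := by
    by_contra hcon
    push Not at hcon
    have h1 : χ g₀ = χ 1 := by
      have hA := congrFun hm (⟨g₀, hg₀L⟩ : L)
      have hB := congrFun hm (1 : L)
      simp only [Finset.sum_apply, Pi.smul_apply, smul_eq_mul, OneMemClass.coe_one] at hA hB
      rw [hA, hB]
      refine Finset.sum_congr rfl fun ψ _ => ?_
      by_cases h0 : m ψ = 0
      · simp [h0]
      · rw [hcon ψ h0]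
    rw [hf g₀ h1, orderOf_one] at hg₀
    exact hp.out.ne_one hg₀.symm
  have hθc : Cfsg.IsCharacter L (θ : L → ℂ) := isCharacter_of_isIrr θ.2
  -- its degree
  have hbig : n ≤ d θ := by
    set N := charKernel (θ : L → ℂ) hθc with hN
    haveI : N.Normal := charKernel_normal hθc
    obtain ⟨ψ, hψ, hψx, -⟩ := exists_deflate_quotient N hθc fun x hx => hx
    have hψf : ∀ q : L ⧸ N, ψ q = ψ 1 → q = 1 := by
      intro q hq
      induction q using QuotientGroup.induction_on with | H z => ?_
      rw [← QuotientGroup.mk_one, hψx, hψx] at hq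
      exact (QuotientGroup.eq_one_iff z).2 hq
    have hNtop : N ≠ ⊤ := fun h => by
      obtain ⟨l, hl⟩ := hθne
      exact hl (show l ∈ N from h ▸ Subgroup.mem_top l)
    have hgenL : ∀ R : Subgroup L, (∀ l : L, (l : G) ^ p = 1 → l ∈ R) → R = ⊤ := by
      intro R hR
      refine eq_top_iff.2 fun l _ => ?_
      obtain ⟨z, hz⟩ := l
      refine Subgroup.closure_induction (k := {g : G | g ^ p = 1}) (p := fun w hw => (⟨w, hw⟩ : L) ∈ R)
        (fun w hw => hR ⟨w, _⟩ hw) (one_mem R) (fun a b _ _ ha hb => mul_mem ha hb)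
        (fun a _ ha => inv_mem ha) hz
    have hdQ : p ∣ Nat.card (L ⧸ N) := by
      by_contra h
      refine hNtop (hgenL N fun l hl => ?_)
      rw [← QuotientGroup.eq_one_iff]
      have h1 : ((l : L ⧸ N)) ^ p = 1 := by
        rw [← QuotientGroup.mk_pow, show l ^ p = 1 from Subtype.ext hl]; rfl
      by_contra hne
      exact h ((orderOf_eq_prime h1 hne) ▸ orderOf_dvd_natCard _)
    have hLG : Nat.card (L ⧸ N) ∣ Nat.card G :=
      (Subgroup.card_quotient_dvd_card N).trans (Subgroup.card_subgroup_dvd_card L)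
    have hnnQ : ∀ R : Subgroup (L ⧸ N), R.Normal → Nat.card R ≠ p := by
      intro R hR hcard
      haveI : R.Normal := hR
      -- `R` contains all images of elements of order `p`
      have hall : R.comap (QuotientGroup.mk' N) = ⊤ := hgenL _ fun l hl => by
        show (l : L ⧸ N) ∈ R
        by_contra hne
        have h1 : ((l : L ⧸ N)) ^ p = 1 := by
          rw [← QuotientGroup.mk_pow, show l ^ p = 1 from Subtype.ext hl]; rfl
        have h2 : IsPGroup p (R ⊔ Subgroup.zpowers (l : L ⧸ N) : Subgroup (L ⧸ N)) := by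
          refine (IsPGroup.of_card (n := 1) (by rw [hcard, pow_one])).to_sup_of_normal_left'
            (IsPGroup.of_card (n := 1) ?_) ?_
          · rw [Nat.card_zpowers, pow_one]
            exact orderOf_eq_prime h1 fun e => hne (e ▸ one_mem R)
          · exact (Subgroup.normalizer_eq_top R) ▸ le_top
        obtain ⟨i, hi⟩ := IsPGroup.iff_card.1 h2
        have hlt : R < R ⊔ Subgroup.zpowers (l : L ⧸ N) := lt_of_le_of_ne le_sup_left fun e =>
          hne (e ▸ Subgroup.mem_sup_right (Subgroup.mem_zpowers _))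
        have hle : i ≤ 1 := by
          by_contra h
          exact hsq (((pow_dvd_pow p (by omega : 2 ≤ i)).trans (hi ▸ Subgroup.card_subgroup_dvd_card _)).trans hLG)
        refine hlt.ne (Subgroup.eq_of_le_of_card_ge hlt.le ?_)
        rw [hi, hcard]
        exact (Nat.pow_le_pow_right hp.out.pos hle).trans (pow_one p).le
      have hRtop : R = ⊤ := by
        rw [← Subgroup.map_comap_eq_self_of_surjective (QuotientGroup.mk'_surjective N) R, hall,
          Subgroup.map_top_of_surjective _ (QuotientGroup.mk'_surjective N)]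
      have hidx : N.index = p ^ 1 := by
        rw [pow_one, ← hcard, hRtop, Subgroup.card_top]; rfl
      have hNp : ¬ p ∣ Nat.card N := fun h => by
        refine hsq (dvd_trans ?_ (Subgroup.card_subgroup_dvd_card L))
        rw [← N.card_mul_index, hidx, pow_one, pow_two]
        exact Nat.mul_dvd_mul_right h p
      have hsolv : Cfsg.IsPSolvable p L :=
        isPSolvable_of_pPrime_pGroup N (hp.out.coprime_iff_not_dvd.2 hNp).symm hidx
      let S : Sylow p L := default
      haveI hSn : (S : Subgroup L).Normal := sylow_normal_of_pSolvable hχ hf hn (by omega) L hsolv S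
      have hStop : (S : Subgroup L) = ⊤ := hgenL _ fun l hl => by
        have h1 : IsPGroup p (Subgroup.zpowers l) := by
          rintro ⟨w, j, rfl⟩
          refine ⟨1, Subtype.ext ?_⟩
          show (l ^ j) ^ p ^ 1 = 1
          rw [pow_one, ← zpow_natCast, ← zpow_mul, mul_comm, zpow_mul, zpow_natCast,
            show l ^ p = 1 from Subtype.ext hl, one_zpow]
        obtain ⟨T, hT⟩ := h1.exists_le_sylow
        haveI := Sylow.unique_of_normal S hSn
        exact (Subsingleton.elim T S) ▸ hT (Subgroup.mem_zpowers l)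
      have hLcard : Nat.card L = p := by
        obtain ⟨i, hi⟩ := IsPGroup.iff_card.1 S.isPGroup'
        rw [hStop, Subgroup.card_top] at hi
        have hle : i ≤ 1 := by
          by_contra h
          exact hsq ((pow_dvd_pow p (by omega : 2 ≤ i)).trans (hi ▸ Subgroup.card_subgroup_dvd_card L))
        have hge : p ≤ Nat.card L := Nat.le_of_dvd Nat.card_pos
          (hdQ.trans (Subgroup.card_quotient_dvd_card N))
        rw [hi] at hge ⊢
        interval_cases i
        · have := hp.out.one_lt; rw [pow_zero] at hge; omega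
        · exact pow_one p
      refine hnn L ⟨fun a ha b => ?_⟩ hLcard
      refine Subgroup.closure_induction (k := {g : G | g ^ p = 1}) (p := fun w _ => b * w * b⁻¹ ∈ L)
        (fun w hw => Subgroup.subset_closure (show (b * w * b⁻¹) ^ p = 1 by
          rw [conj_pow, show w ^ p = 1 from hw, mul_one, mul_inv_cancel]))
        (by rw [mul_one, mul_inv_cancel]; exact one_mem L)
        (fun a c _ _ ha hc => by
          rw [show b * (a * c) * b⁻¹ = b * a * b⁻¹ * (b * c * b⁻¹) by group]; exact mul_mem ha hc)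
        (fun a _ ha => by rw [show b * a⁻¹ * b⁻¹ = (b * a * b⁻¹)⁻¹ by group]; exact inv_mem ha) ha
    have h := Cfsg.Agent.S4503.result (G := L ⧸ N) p hp.out hdQ (fun h => hsq (h.trans hLG)) hnnQ ψ hψ hψf
    have : Cfsg.charDegree ψ = d θ := by
      rw [Cfsg.charDegree, ← QuotientGroup.mk_one, hψx, hd, Complex.natCast_re, Nat.floor_natCast]
    omega
  -- the restriction is irreducible
  have hone : m θ = 1 ∧ ∀ ψ, ψ ≠ θ → m ψ = 0 := by
    have h1 : m θ * d θ ≤ n := hsum ▸ Finset.single_le_sum (f := fun ψ => m ψ * d ψ) (fun _ _ => Nat.zero_le _) (Finset.mem_univ θ)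
    have h2 : m θ = 1 := by
      have := Nat.pos_of_ne_zero hθm
      by_contra h
      have : 2 * d θ ≤ m θ * d θ := Nat.mul_le_mul_right _ (by omega)
      omega
    refine ⟨h2, fun ψ hψ => ?_⟩
    rw [← Finset.add_sum_erase _ _ (Finset.mem_univ θ), h2, one_mul] at hsum
    have h3 : ∑ ψ ∈ Finset.univ.erase θ, m ψ * d ψ = 0 := by omega
    exact (Nat.mul_eq_zero.1 (Finset.sum_eq_zero_iff.1 h3 ψ (Finset.mem_erase.2 ⟨hψ, Finset.mem_univ ψ⟩))).resolve_right
      (hd0 ψ).ne'
  have hirr : Cfsg.IsIrrCharacter L (fun l : L => χ l) := by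
    rw [hm, Finset.sum_eq_single θ (fun ψ _ hne => by rw [hone.2 ψ hne, Nat.cast_zero, zero_smul])
      (fun h => absurd (Finset.mem_univ θ) h), hone.1, Nat.cast_one, one_smul]
    exact θ.2
  obtain ⟨N, τ, hτ⟩ := hχ
  let T : G →* Matrix (Fin N) (Fin N) ℂ :=
    ((LinearMap.toMatrixAlgEquiv' : ((Fin N → ℂ) →ₗ[ℂ] (Fin N → ℂ)) ≃ₐ[ℂ] _)).toAlgHom.toRingHom.toMonoidHom.comp τ
  have hTtr : ∀ g, (T g).trace = χ g := fun g => by
    rw [← hτ, Representation.character, LinearMap.trace_eq_matrix_trace ℂ (Pi.basisFun ℂ (Fin N))]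
    rfl
  obtain ⟨c, hc⟩ := Cfsg.Agent.Blocks.PrimeBlock.scalar_of_commute (T.comp L.subtype)
    (by convert hirr using 1; funext l; exact hTtr l) (T y)
    (fun l => by show T (l : G) * T y = T y * T (l : G); rw [← map_mul, ← map_mul, (hcomm l l.2).eq])
  rw [Subgroup.mem_center_iff]
  intro g
  have h1 : T (g * y * g⁻¹ * y⁻¹) = 1 := by
    rw [map_mul, map_mul, map_mul, hc, mul_smul_comm, mul_one, smul_mul_assoc, ← map_mul, mul_inv_cancel,
      map_one, smul_mul_assoc, one_mul, ← one_mul (T y⁻¹), ← smul_mul_assoc, ← hc, ← map_mul,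
      mul_inv_cancel, map_one]
  have h2 := hf (g * y * g⁻¹ * y⁻¹) (by rw [← hTtr (g * y * g⁻¹ * y⁻¹), ← hTtr 1, h1, map_one])
  rw [mul_inv_eq_one, mul_inv_eq_iff_eq_mul] at h2
  exact h2

/-- A character of degree below `p - 1` is not constant on the nontrivial powers of an element. -/
theorem not_rational {χ : G → ℂ} (hχ : Cfsg.IsCharacter G χ) (hf : ∀ g : G, χ g = χ 1 → g = 1)
    {n : ℕ} (hn : χ 1 = (n : ℂ)) (hnp : n + 2 ≤ p) {x : G} (hx : orderOf x = p)
    (hconst : ∀ i : ℕ, ¬ p ∣ i → χ (x ^ i) = χ x) : False := by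
  classical
  set R := Subgroup.zpowers x with hR
  haveI := Fintype.ofFinite R
  have hcardR : Nat.card R = p := by rw [Nat.card_zpowers, hx]
  have hres : Cfsg.IsCharacter R (fun a : R => χ a) := isCharacter_restrict R hχ
  have hx1 : (⟨x, Subgroup.mem_zpowers x⟩ : R) ≠ 1 := fun h => by
    rw [show x = 1 from congrArg Subtype.val h, orderOf_one] at hx; exact hp.out.ne_one hx.symm
  obtain ⟨φ, hφi, hφ⟩ := exists_irr_ne hx1
  have hcommR : ∀ a b : R, a * b = b * a := fun a b => by
    obtain ⟨a, i, rfl⟩ := a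
    obtain ⟨b, j, rfl⟩ := b
    exact Subtype.ext (Commute.zpow_zpow_self x i j).eq
  have hφ1 : φ 1 = 1 := irr_degree_one_of_comm hcommR hφi
  have hφc : Cfsg.IsCharacter R φ := isCharacter_of_isIrr hφi
  have hS : ∑ a : R, φ a = 0 := by
    have h : φ ⟨x, Subgroup.mem_zpowers x⟩ * ∑ a : R, φ a = ∑ a : R, φ a := by
      rw [Finset.mul_sum]
      exact Fintype.sum_equiv (Equiv.mulLeft _) _ _ fun a => (char_mul_of_degree_one hφc hφ1 _ a).symm
    by_contra hne
    exact hφ (by rw [hφ1]; exact mul_right_cancel₀ hne (h.trans (one_mul _).symm))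
  have hval : ∀ a : R, a ≠ 1 → χ (a : G) = χ x := fun a ha => by
    obtain ⟨i, hi⟩ := mem_powers_iff_mem_zpowers.2 a.2
    have hi' : x ^ i = (a : G) := hi
    rw [← hi']
    refine hconst i fun h => ha (Subtype.ext ?_)
    rw [← hi', OneMemClass.coe_one, ← orderOf_dvd_iff_pow_eq_one, hx]
    exact h
  have key : ∀ f : R → ℂ, ∑ a : R, χ (a : G) * f a = χ x * ∑ a : R, f a + ((n : ℂ) - χ x) * f 1 := by
    intro f
    rw [← sub_eq_iff_eq_add', Finset.mul_sum, ← Finset.sum_sub_distrib, Finset.sum_eq_single (1 : R)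
      (fun a _ ha => by rw [hval a ha, sub_self]) (fun h => absurd (Finset.mem_univ _) h), OneMemClass.coe_one, hn]
    ring
  obtain ⟨a, ha⟩ := classInner_char_nat hres (isCharacter_one (G := R))
  obtain ⟨b, hb⟩ := classInner_char_nat hres hφc
  have hp0 : (p : ℂ) ≠ 0 := Nat.cast_ne_zero.2 hp.out.ne_zero
  rw [Cfsg.classInner, hcardR, key, map_one] at ha
  rw [Cfsg.classInner, hcardR, key, ← map_sum, hS, map_zero, hφ1, map_one] at hb
  rw [Finset.sum_const, Finset.card_univ, ← Nat.card_eq_fintype_card, hcardR, nsmul_one] at ha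
  field_simp at ha hb
  have hnat : (a : ℂ) + ((p : ℂ) - 1) * b = n := by
    refine mul_left_cancel₀ hp0 ?_
    linear_combination -ha - ((p : ℂ) - 1) * hb
  have hb0 : b ≠ 0 := by
    intro h0
    rw [h0] at hb
    have : χ x = χ 1 := by rw [hn]; push_cast at hb; linear_combination -hb
    rw [hf x this, orderOf_one] at hx
    exact hp.out.ne_one hx.symm
  have hnat' : a + (p - 1) * b = n := by
    apply Nat.cast_injective (R := ℂ)
    push_cast [Nat.cast_sub hp.out.one_le]
    exact hnat
  have : p - 1 ≤ (p - 1) * b := Nat.le_mul_of_pos_right _ (Nat.pos_of_ne_zero hb0)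
  omega

/-- The theorem. -/
theorem main (hdiv : p ∣ Nat.card G) (hsq : ¬ p ^ 2 ∣ Nat.card G)
    (hnn : ∀ H : Subgroup G, H.Normal → Nat.card H ≠ p) {χ : G → ℂ} (hχ : Cfsg.IsCharacter G χ)
    (hfaith : ∀ g : G, χ g = χ 1 → g = 1) {n : ℕ} (hn : χ 1 = (n : ℂ)) (hpn : 2 * n + 1 = p) :
    Nonempty ((G ⧸ Subgroup.center G) ≃* Matrix.ProjectiveSpecialLinearGroup (Fin 2) (ZMod p)) := by
  classical
  obtain ⟨k, _, hkfin, hchar, ρ₀, hinj⟩ := exists_modular hp.out hdiv hsq hnn hχ hfaith hn
  let P : Sylow p G := default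
  have hP : Nat.card (P : Subgroup G) = p := by
    obtain ⟨i, hi⟩ := IsPGroup.iff_card.1 P.isPGroup'
    have hle : i ≤ 1 := by
      by_contra h
      exact hsq ((pow_dvd_pow p (by omega : 2 ≤ i)).trans (hi ▸ Subgroup.card_subgroup_dvd_card _))
    have := P.dvd_card_of_dvd_card hdiv
    interval_cases i
    · rw [hi, pow_zero, Nat.dvd_one] at this; exact absurd this hp.out.ne_one
    · rw [hi, pow_one]
  have hn2 : 2 ≤ n := by
    by_contra h
    have hn0 : n ≠ 0 := fun h0 => hp.out.ne_one (by omega)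
    obtain rfl : n = 1 := by omega
    have hab : ∀ a b : G, a * b = b * a := fun a b => hinj (by
      rw [map_mul, map_mul]
      ext i j
      simp [Matrix.mul_apply, Fin.eq_zero i, Fin.eq_zero j, mul_comm])
    exact hnn P ⟨fun a ha g => by rw [hab g a, mul_inv_cancel_right]; exact ha⟩ hP
  obtain ⟨x, hx, hx1⟩ : ∃ x ∈ (P : Subgroup G), x ≠ 1 := by
    by_contra h
    push Not at h
    rw [(Subgroup.eq_bot_iff_forall _).2 h, Subgroup.card_bot] at hP
    exact hp.out.ne_one hP.symm
  have hox : orderOf x = p := by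
    have h := orderOf_dvd_natCard (⟨x, hx⟩ : (P : Subgroup G))
    rw [hP, Subgroup.orderOf_mk] at h
    exact ((Nat.dvd_prime hp.out).1 h).resolve_left fun h1 => hx1 (orderOf_eq_one_iff.1 h1)
  have hxp : x ^ p = 1 := hox ▸ pow_orderOf_eq_one x
  have hgenP : Subgroup.zpowers x = (P : Subgroup G) :=
    Subgroup.eq_of_le_of_card_ge (Subgroup.zpowers_le.2 hx) (by rw [hP, Nat.card_zpowers, hox])
  obtain ⟨F, _, _, _, Φ, hΦx⟩ := exists_psl_hom ρ₀ hinj (by omega) P hP hx hx1
  set K := Φ.ker with hK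
  have hKp : ¬ p ∣ Nat.card K := by
    intro h
    obtain ⟨y, hy⟩ := exists_prime_orderOf_dvd_card' (G := K) p h
    have hoy : orderOf (y : G) = p := by rwa [Subgroup.orderOf_coe]
    have hpg : IsPGroup p (Subgroup.zpowers (y : G)) := IsPGroup.of_card (n := 1) (by rw [Nat.card_zpowers, hoy, pow_one])
    obtain ⟨Q, hQ⟩ := hpg.exists_le_sylow
    have hQy : (Q : Subgroup G) = Subgroup.zpowers (y : G) := (Subgroup.eq_of_le_of_card_ge hQ (by
      rw [Nat.card_zpowers, hoy]; exact ((Nat.card_congr (Q.equiv P).toEquiv).trans hP).le)).symm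
    obtain ⟨g, hg⟩ := MulAction.exists_smul_eq G Q P
    have hxm : x ∈ ((g • Q : Sylow p G) : Subgroup G) := by rw [hg]; exact hx
    rw [Sylow.coe_subgroup_smul, hQy, Subgroup.mem_pointwise_smul_iff_inv_smul_mem] at hxm
    have hmemK : (MulAut.conj g)⁻¹ • x ∈ K := (Subgroup.zpowers_le.2 y.2) hxm
    have hconj := (inferInstance : K.Normal).conj_mem _ hmemK g
    refine hΦx (MonoidHom.mem_ker.1 (show x ∈ K from ?_))
    simpa [MulAut.smul_def, mul_assoc] using hconj
  have hKZ : K ≤ Subgroup.center G := fun y hy => mem_center_of_commute hχ hfaith hn hpn.symm hn2 hsq hdiv hnn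
    fun g hg => commute_of_pPrime hχ hfaith hn (by omega) hsq K hKp hg hy
  set S := Φ.range with hS
  set φ := Φ.rangeRestrict with hφ
  have hφs : Function.Surjective φ := Φ.rangeRestrict_surjective
  have hcard : Nat.card G = Nat.card K * Nat.card S := by
    rw [← K.card_mul_index, hK, Subgroup.index_ker]
  have hdivS : p ∣ Nat.card S := (hp.out.dvd_mul.1 (hcard ▸ hdiv)).resolve_left hKp
  have hsqS : ¬ p ^ 2 ∣ Nat.card S := fun h => hsq (hcard ▸ dvd_mul_of_dvd_right h _)
  have hφx : φ x ≠ 1 := fun h => hΦx (congrArg Subtype.val h)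
  have hφxp : (φ x) ^ p = 1 := by rw [← map_pow, hxp, map_one]
  have hn1 : 1 < Nat.card (Sylow p S) := by
    by_contra h
    haveI : Subsingleton (Sylow p S) := Finite.card_le_one_iff_subsingleton.1 (not_lt.1 h)
    let T : Sylow p S := P.mapSurjective hφs
    haveI : (T : Subgroup S).Normal := Sylow.normal_of_subsingleton T
    set J := (T : Subgroup S).comap φ with hJ
    haveI : J.Normal := inferInstanceAs ((T : Subgroup S).comap φ).Normal
    have hPJ : (P : Subgroup G) ≤ J := fun a ha => ⟨a, ha, rfl⟩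
    refine hnn P ⟨fun a ha g => ?_⟩ hP
    have hmem : g * a * g⁻¹ ∈ J := (inferInstance : J.Normal).conj_mem a (hPJ ha) g
    obtain ⟨b, hb, hbe⟩ := hmem
    -- `g a g⁻¹` is a `p`-element of `P K` with `K` central of order prime to `p`
    have hk : b⁻¹ * (g * a * g⁻¹) ∈ K := by
      rw [hK, MonoidHom.mem_ker, map_mul, map_inv, inv_mul_eq_one]
      exact congrArg Subtype.val hbe
    have hbp : ∀ c ∈ (P : Subgroup G), c ^ p = 1 := fun c hc => by
      have h := pow_card_eq_one' (x := (⟨c, hc⟩ : (P : Subgroup G)))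
      rw [hP] at h
      exact congrArg Subtype.val h
    have hcm : Commute b (b⁻¹ * (g * a * g⁻¹)) := Subgroup.mem_center_iff.1 (hKZ hk) b
    have hk1 : (b⁻¹ * (g * a * g⁻¹)) ^ p = 1 := by
      have h := hcm.mul_pow p
      rw [mul_inv_cancel_left, conj_pow, hbp a ha, mul_one, mul_inv_cancel, hbp b hb, one_mul] at h
      exact h.symm
    have h1 : b⁻¹ * (g * a * g⁻¹) = 1 := by
      by_contra hne
      refine hKp ?_
      rw [← orderOf_eq_prime hk1 hne, ← Subgroup.orderOf_mk _ hk]
      exact orderOf_dvd_natCard _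
    rw [inv_mul_eq_one] at h1
    exact h1 ▸ hb
  rcases psl_or_index_two (by omega) S hdivS hsqS hn1 with hiso | hconj
  · obtain ⟨e⟩ := hiso
    haveI : Fact (Fintype.card (ZMod p) = p) := ⟨ZMod.card p⟩
    haveI : IsSimpleGroup (Matrix.ProjectiveSpecialLinearGroup (Fin 2) (ZMod p)) :=
      Classical.Linear.isSimpleGroup_PSL_fin le_rfl fun _ => by rw [ZMod.card]; omega
    haveI : IsSimpleGroup S := e.isSimpleGroup
    have hZK : Subgroup.center G ≤ K := fun z hz => by
      have hc : φ z ∈ Subgroup.center S := Subgroup.mem_center_iff.2 fun s => by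
        obtain ⟨g, rfl⟩ := hφs s
        rw [← map_mul, ← map_mul, Subgroup.mem_center_iff.1 hz g]
      rcases (inferInstance : (Subgroup.center S).Normal).eq_bot_or_eq_top with hb | ht
      · rw [hb, Subgroup.mem_bot] at hc
        exact MonoidHom.mem_ker.2 (congrArg Subtype.val hc)
      · exfalso
        have hab : ∀ a b : S, a * b = b * a := fun a b =>
          (Subgroup.mem_center_iff.1 (show b ∈ Subgroup.center S by rw [ht]; exact Subgroup.mem_top b) a)
        letI : CommGroup S := { (inferInstance : Group S) with mul_comm := hab }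
        have hprime := IsSimpleGroup.prime_card (α := S)
        have hcS : Nat.card S = p := ((Nat.prime_dvd_prime_iff_eq hp.out hprime).1 hdivS).symm
        haveI : Subsingleton (Sylow p S) := ⟨fun A B => Sylow.ext (by
          have hA : ∀ C : Sylow p S, (C : Subgroup S) = ⊤ := fun C => by
            refine Subgroup.eq_top_of_card_eq _ ?_
            have := C.dvd_card_of_dvd_card hdivS
            refine Nat.dvd_antisymm (Subgroup.card_subgroup_dvd_card _) ?_
            rw [hcS]
            exact this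
          rw [hA A, hA B])⟩
        have := Finite.card_le_one_iff_subsingleton.2 (inferInstance : Subsingleton (Sylow p S))
        omega
    have hEq : Subgroup.center G = Φ.ker := le_antisymm hZK hKZ
    exact ⟨((QuotientGroup.quotientMulEquivOfEq hEq).trans (QuotientGroup.quotientKerEquivRange Φ)).trans e⟩
  · exfalso
    refine not_rational hχ hfaith hn (by omega) hox fun i hi => ?_
    obtain ⟨s, hs⟩ := isConj_iff.1 (hconj (φ x) hφxp hφx i hi)
    obtain ⟨g, rfl⟩ := hφs s
    rw [← map_inv, ← map_mul, ← map_mul, ← map_pow] at hs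
    have hk : (g * x * g⁻¹)⁻¹ * x ^ i ∈ K := by
      rw [hK, MonoidHom.mem_ker, map_mul, map_inv, inv_mul_eq_one]
      exact congrArg Subtype.val hs
    have hcm : Commute (g * x * g⁻¹) ((g * x * g⁻¹)⁻¹ * x ^ i) := Subgroup.mem_center_iff.1 (hKZ hk) _
    have hk1 : ((g * x * g⁻¹)⁻¹ * x ^ i) ^ p = 1 := by
      have h := hcm.mul_pow p
      rw [mul_inv_cancel_left, conj_pow, hxp, mul_one, mul_inv_cancel, one_mul, ← pow_mul, mul_comm i,
        pow_mul, hxp, one_pow] at h
      exact h.symm
    have h1 : (g * x * g⁻¹)⁻¹ * x ^ i = 1 := by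
      by_contra hne
      refine hKp ?_
      rw [← orderOf_eq_prime hk1 hne, ← Subgroup.orderOf_mk _ hk]
      exact orderOf_dvd_natCard _
    rw [inv_mul_eq_one] at h1
    rw [← h1, char_isClassFunction hχ x g]

end Cfsg.Agent.BlocksChars.HalfDegree
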