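import Mathlib

/-!
# Half degree: the logarithm of a unipotent element as a polynomial

`W = -∑ a⁻¹ X ^ a` over the nonzero residues `a` modulo `p`.
-/

set_option autoImplicit false
set_option linter.style.haveILetI false
set_option linter.unusedSectionVars false

namespace Cfsg.Agent.BlocksChars.HalfDegree

open Polynomial

universe u

variable (p : ℕ) [hp : Fact p.Prime] (k : Type u) [Field k] [CharP k p]

/-- A residue modulo `p` in the field. -/
noncomputable def resHom : ZMod p →+* k := ZMod.castHom (dvd_refl p) k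

/-- The truncated logarithm. -/
noncomputable def logPoly : k[X] := -∑ a : (ZMod p)ˣ, C (resHom p k (a⁻¹ : (ZMod p)ˣ)) * X ^ (a : ZMod p).val

/-- The derivation `X d/dX`. -/
noncomputable def dX (P : k[X]) : k[X] := X * derivative P

variable {p k}

theorem dX_mul (P Q : k[X]) : dX k (P * Q) = dX k P * Q + P * dX k Q := by
  simp only [dX, derivative_mul]; ring

theorem dX_add (P Q : k[X]) : dX k (P + Q) = dX k P + dX k Q := by
  simp only [dX, derivative_add]; ring

theorem dX_C (c : k) : dX k (C c) = 0 := by simp [dX]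

theorem dX_X : dX k (X : k[X]) = X := by simp [dX]

theorem resHom_natCast (i : ℕ) : resHom p k (i : ZMod p) = (i : k) := map_natCast _ i

theorem resHom_val (a : ZMod p) : ((a.val : ℕ) : k) = resHom p k a := by
  rw [← resHom_natCast (p := p), ZMod.natCast_zmod_val]

theorem sum_inv_eq_zero (hp2 : p ≠ 2) : ∑ a : (ZMod p)ˣ, resHom p k (a⁻¹ : (ZMod p)ˣ) = 0 := by
  have h2 : (2 : k) ≠ 0 := by
    intro h
    have h' : ((2 : ℕ) : k) = 0 := by exact_mod_cast h
    rw [CharP.cast_eq_zero_iff k p] at h'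
    exact hp2 ((Nat.prime_dvd_prime_iff_eq hp.out Nat.prime_two).1 h')
  have h1 : ∑ a : (ZMod p)ˣ, resHom p k (a⁻¹ : (ZMod p)ˣ) =
      -∑ a : (ZMod p)ˣ, resHom p k (a⁻¹ : (ZMod p)ˣ) := by
    rw [← Finset.sum_neg_distrib]
    refine Fintype.sum_equiv (Equiv.neg _) _ _ fun a => ?_
    rw [Equiv.neg_apply, inv_neg, Units.val_neg, map_neg, neg_neg]
  have h3 : (2 : k) * ∑ a : (ZMod p)ˣ, resHom p k (a⁻¹ : (ZMod p)ˣ) = 0 := by linear_combination h1
  exact (mul_eq_zero.1 h3).resolve_left h2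

theorem sum_X_pow : ∑ a : ZMod p, (X : k[X]) ^ a.val = (X - 1) ^ (p - 1) := by
  haveI : CharP k[X] p := inferInstance
  have h1 : ∑ a : ZMod p, (X : k[X]) ^ a.val = ∑ i ∈ Finset.range p, X ^ i := by
    refine Finset.sum_nbij ZMod.val (fun a _ => Finset.mem_range.2 (ZMod.val_lt a))
      (fun a _ b _ h => ZMod.val_injective p h) (fun i hi => ⟨((i : ℕ) : ZMod p), by simp, ?_⟩) fun a _ => rfl
    exact ZMod.val_cast_of_lt (Finset.mem_range.1 hi)
  refine mul_right_cancel₀ (b := (X - 1 : k[X])) (by simpa using X_sub_C_ne_zero (1 : k)) ?_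
  rw [h1, geom_sum_mul, ← pow_succ, Nat.sub_add_cancel hp.out.one_le, sub_pow_char, one_pow]

theorem dX_logPoly : dX k (logPoly p k) = 1 - (X - 1) ^ (p - 1) := by
  have h1 : dX k (logPoly p k) = -∑ a : (ZMod p)ˣ, (X : k[X]) ^ (a : ZMod p).val := by
    simp only [logPoly, dX, derivative_neg, derivative_sum, mul_neg, Finset.mul_sum]
    refine congrArg _ (Finset.sum_congr rfl fun a _ => ?_)
    rw [derivative_C_mul_X_pow, resHom_val, ← map_mul, ← Units.val_mul, inv_mul_cancel, Units.val_one,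
      map_one, map_one, one_mul, ← pow_succ']
    congr 1
    have : 0 < (a : ZMod p).val := Nat.pos_of_ne_zero fun h => a.ne_zero ((ZMod.val_eq_zero _).1 h)
    omega
  rw [h1, ← sum_X_pow, ← Finset.add_sum_erase _ _ (Finset.mem_univ (0 : ZMod p)), ZMod.val_zero, pow_zero]
  have h2 : ∑ a ∈ Finset.univ.erase (0 : ZMod p), (X : k[X]) ^ a.val =
      ∑ a : (ZMod p)ˣ, (X : k[X]) ^ (a : ZMod p).val := by
    refine (Finset.sum_nbij (fun a : (ZMod p)ˣ => (a : ZMod p)) (fun a _ => ?_) ?_ ?_ fun a _ => rfl).symm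
    · exact Finset.mem_erase.2 ⟨a.ne_zero, Finset.mem_univ _⟩
    · exact fun a _ b _ h => Units.ext h
    · exact fun b hb => ⟨Units.mk0 b (Finset.ne_of_mem_erase hb), Finset.mem_univ _, rfl⟩
  rw [h2]
  ring

theorem exists_logPoly_eq (hp2 : p ≠ 2) : ∃ R : k[X], logPoly p k = (X - 1) + (X - 1) ^ 2 * R := by
  have h0 : (logPoly p k).eval 1 = 0 := by
    simp only [logPoly, eval_neg, eval_finsetSum, eval_mul, eval_C, eval_pow, eval_X, one_pow, mul_one,
      sum_inv_eq_zero hp2, neg_zero]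
  have h1 : (derivative (logPoly p k)).eval 1 = 1 := by
    have h := congrArg (Polynomial.eval 1) (dX_logPoly (p := p) (k := k))
    have : p - 1 ≠ 0 := by have := hp.out.two_le; omega
    simpa [dX, zero_pow this] using h
  have hroot : (logPoly p k - (X - 1)).eval 1 = 0 := by simp [h0]
  obtain ⟨Q, hQ⟩ := dvd_iff_isRoot.2 hroot
  have hQ1 : Q.eval 1 = 0 := by
    have h := congrArg (fun P => (derivative P).eval 1) hQ
    simp [h1, map_one] at h
    exact h.symm
  obtain ⟨R, hR⟩ := dvd_iff_isRoot.2 hQ1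
  refine ⟨R, ?_⟩
  rw [map_one] at hQ hR
  linear_combination hQ + (X - 1 : k[X]) * hR

/-- A set of polynomials closed under the algebra operations, containing the logarithm and the
multiples of `(X - 1) ^ p`, is everything. -/
theorem poly_induction (hp2 : p ≠ 2) (S : k[X] → Prop) (hC : ∀ c, S (C c))
    (hadd : ∀ P Q, S P → S Q → S (P + Q)) (hmul : ∀ P Q, S P → S Q → S (P * Q))
    (hlog : S (logPoly p k)) (hbig : ∀ R, S ((X - 1) ^ p * R)) (P : k[X]) : S P := by
  obtain ⟨R₀, hR₀⟩ := exists_logPoly_eq (p := p) (k := k) hp2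
  have hpow : ∀ (Q : k[X]), S Q → ∀ i : ℕ, S (Q ^ i) := fun Q hQ i => by
    induction i with
    | zero => simpa using hC 1
    | succ i ih => rw [pow_succ]; exact hmul _ _ ih hQ
  have key : ∀ j i : ℕ, p ≤ i + j → ∀ R, S ((X - 1) ^ i * R) := by
    intro j
    induction j with
    | zero =>
      intro i hi R
      obtain ⟨d, rfl⟩ := Nat.exists_eq_add_of_le (by omega : p ≤ i)
      rw [pow_add, mul_assoc]
      exact hbig _
    | succ j ih =>
      intro i hi R
      have hW : ∃ B, logPoly p k ^ i = (X - 1) ^ i + (X - 1) ^ (i + 1) * B := by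
        rw [hR₀, show (X - 1) + (X - 1) ^ 2 * R₀ = (X - 1) * (1 + (X - 1) * R₀) by ring, mul_pow]
        obtain ⟨B, hB⟩ : (X - 1 : k[X]) ∣ (1 + (X - 1) * R₀) ^ i - 1 ^ i :=
          (Dvd.intro R₀ (by ring)).trans (sub_dvd_pow_sub_pow _ _ i)
        rw [one_pow] at hB
        exact ⟨B, by rw [pow_succ]; linear_combination (X - 1 : k[X]) ^ i * hB⟩
      obtain ⟨B, hB⟩ := hW
      obtain ⟨R', hR'⟩ := X_sub_C_dvd_sub_C_eval (a := (1 : k)) (p := R)
      rw [map_one] at hR'
      rw [show (X - 1 : k[X]) ^ i * R = C (R.eval 1) * logPoly p k ^ i +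
          (X - 1) ^ (i + 1) * (R' - C (R.eval 1) * B) by
        linear_combination (X - 1 : k[X]) ^ i * hR' - C (R.eval 1) * hB]
      exact hadd _ _ (hmul _ _ (hC _) (hpow _ hlog i)) (ih _ (by omega) _)
  simpa using key p 0 le_add_self P

end Cfsg.Agent.BlocksChars.HalfDegree
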