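import Cfsg.Agent.BlocksChars.HalfDegree.Adjoint

/-!
# Half degree: a three-dimensional orthogonal summand of the endomorphisms
-/

set_option autoImplicit false
set_option linter.style.haveILetI false
set_option linter.unusedSectionVars false

namespace Cfsg.Agent.BlocksChars.HalfDegree

open Polynomial Subgroup

universe u v w₁

variable {k : Type u} [Field k] {p : ℕ} [hp : Fact p.Prime] [CharP k p]
variable {V : Type v} [AddCommGroup V] [Module k V] [FiniteDimensional k V]
variable {G : Type w₁} [Group G] [Finite G]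

/-- The maps commuting with `Δ` whose image lies in the image of `Δ`. -/
structure InJ {E : Type*} [AddCommGroup E] [Module k E] (Δ φ : Module.End k E) : Prop where
  comm : Commute φ Δ
  range : ∀ e, ∃ e', φ e = Δ e'

theorem InJ.mul_right {E : Type*} [AddCommGroup E] [Module k E] {Δ φ ψ : Module.End k E}
    (h : InJ Δ φ) (hψ : Commute ψ Δ) : InJ Δ (φ * ψ) :=
  ⟨h.comm.mul_left hψ, fun e => h.range (ψ e)⟩

theorem InJ.mul_left {E : Type*} [AddCommGroup E] [Module k E] {Δ φ ψ : Module.End k E}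
    (h : InJ Δ φ) (hψ : Commute ψ Δ) : InJ Δ (ψ * φ) :=
  ⟨hψ.mul_left h.comm, fun e => by
    obtain ⟨e', he⟩ := h.range e
    exact ⟨ψ e', by rw [Module.End.mul_apply, he]; exact LinearMap.congr_fun hψ e'⟩⟩

theorem InJ.add {E : Type*} [AddCommGroup E] [Module k E] {Δ φ ψ : Module.End k E}
    (h : InJ Δ φ) (h' : InJ Δ ψ) : InJ Δ (φ + ψ) :=
  ⟨h.comm.add_left h'.comm, fun e => by
    obtain ⟨a, ha⟩ := h.range e
    obtain ⟨b, hb⟩ := h'.range e
    exact ⟨a + b, by rw [LinearMap.add_apply, ha, hb, map_add]⟩⟩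

theorem InJ.neg {E : Type*} [AddCommGroup E] [Module k E] {Δ φ : Module.End k E}
    (h : InJ Δ φ) : InJ Δ (-φ) :=
  ⟨h.comm.neg_left, fun e => by
    obtain ⟨a, ha⟩ := h.range e
    exact ⟨-a, by rw [LinearMap.neg_apply, ha, map_neg]⟩⟩

theorem InJ.zero {E : Type*} [AddCommGroup E] [Module k E] {Δ : Module.End k E} :
    InJ Δ (0 : Module.End k E) := ⟨Commute.zero_left _, fun _ => ⟨0, by simp⟩⟩

theorem InJ.isNilpotent {E : Type*} [AddCommGroup E] [Module k E] {Δ φ : Module.End k E}
    (h : InJ Δ φ) {N : ℕ} (hN : Δ ^ N = 0) : IsNilpotent φ := by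
  refine ⟨N, ?_⟩
  have key : ∀ i e, ∃ e', (φ ^ i) e = (Δ ^ i) e' := by
    intro i
    induction i with
    | zero => exact fun e => ⟨e, rfl⟩
    | succ i ih =>
      intro e
      obtain ⟨e', he⟩ := ih e
      obtain ⟨e'', he'⟩ := h.range e'
      refine ⟨e'', ?_⟩
      rw [pow_succ' φ, Module.End.mul_apply, he,
        show φ ((Δ ^ i) e') = (Δ ^ i) (φ e') from LinearMap.congr_fun (h.comm.pow_right i) e',
        he', pow_succ Δ, Module.End.mul_apply]
  ext e
  obtain ⟨e', he⟩ := key N e
  rw [he, hN, LinearMap.zero_apply, LinearMap.zero_apply]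

/-- Self-adjointness for the trace form. -/
def SelfAdj (φ : Module.End k (Module.End k V)) : Prop := ∀ v w, tr (φ v * w) = tr (v * φ w)

theorem SelfAdj.one : SelfAdj (1 : Module.End k (Module.End k V)) := fun _ _ => rfl

theorem SelfAdj.sub {φ ψ : Module.End k (Module.End k V)} (h : SelfAdj φ) (h' : SelfAdj ψ) :
    SelfAdj (φ - ψ) := fun v w => by
  simp only [tr] at h h' ⊢
  rw [LinearMap.sub_apply, LinearMap.sub_apply, sub_mul, mul_sub, map_sub, map_sub]
  exact congrArg₂ (· - ·) (h v w) (h' v w)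

theorem SelfAdj.pow {φ : Module.End k (Module.End k V)} (h : SelfAdj φ) : ∀ i, SelfAdj (φ ^ i)
  | 0 => fun _ _ => rfl
  | i + 1 => fun v w => by
    nth_rw 1 [pow_succ']
    rw [Module.End.mul_apply, h, SelfAdj.pow h i v, pow_succ, Module.End.mul_apply]

theorem eq_zero_of_tr {e : Module.End k V} (h : ∀ w, tr (e * w) = 0) : e = 0 := by
  ext v
  rw [LinearMap.zero_apply]
  refine (Module.forall_dual_apply_eq_zero_iff k _).1 fun φ => ?_
  have h1 := h (φ.smulRight v)
  rwa [show e * φ.smulRight v = φ.smulRight (e v) from LinearMap.ext fun z => by simp, tr,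
    LinearMap.trace_smulRight] at h1

/-- A summand of the endomorphisms stable under conjugation. -/
structure Summand (ρ : G →* Module.End k V) (x₀ : G) (M : Submodule k (Module.End k V)) : Prop where
  stable : ∀ g, ∀ e ∈ M, adj ρ g e ∈ M
  rank : Module.finrank k M = 3
  nondeg : ∀ e ∈ M, (∀ e' ∈ M, tr (e * e') = 0) → e = 0
  cube : ∀ e ∈ M, (((adj ρ x₀ - 1) ^ 3 : Module.End k (Module.End k V))) e = 0
  square : ∃ e ∈ M, (((adj ρ x₀ - 1) ^ 2 : Module.End k (Module.End k V))) e ≠ 0

theorem sub_pow_eq_zero {A : Type*} [Ring A] {L R : A} (h : Commute L R) {n N : ℕ}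
    (hL : L ^ n = 0) (hR : R ^ n = 0) (hN : n + n ≤ N + 1) : (L - R) ^ N = 0 := by
  rw [sub_eq_add_neg]
  exact h.neg_right.add_pow_eq_zero_of_add_le_succ_of_pow_eq_zero hL
    (by rw [neg_pow, hR, mul_zero]) hN

theorem adj_sub_one_pow (ρ : G →* Module.End k V) {x₀ : G} (hxp : ρ x₀ ^ p = 1)
    (hn : 2 * Module.finrank k V < p) : (adj ρ x₀ - 1) ^ (p - 1) = 0 := by
  set L : Module.End k (Module.End k V) := LinearMap.mulLeft k (ρ x₀ - 1) with hL
  set R : Module.End k (Module.End k V) := LinearMap.mulRight k (ρ x₀ - 1) with hR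
  set Q : Module.End k (Module.End k V) := LinearMap.mulRight k (ρ x₀⁻¹) with hQ
  have e : adj ρ x₀ - 1 = (L - R) * Q := by
    ext1 b
    have h1 : ρ x₀ * ρ x₀⁻¹ = 1 := by rw [← map_mul, mul_inv_cancel, map_one]
    have h2 : ρ x₀⁻¹ * ρ x₀ = 1 := by rw [← map_mul, inv_mul_cancel, map_one]
    simp only [hL, hR, hQ, LinearMap.sub_apply, Module.End.one_apply, adj_apply, Module.End.mul_apply,
      LinearMap.mulLeft_apply, LinearMap.mulRight_apply]
    simp only [sub_mul, mul_sub, one_mul, mul_one, mul_assoc, h2]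
    abel
  have hy : (ρ x₀ - 1) ^ Module.finrank k V = 0 := sub_one_pow_finrank (p := p) hxp
  have hzero : (L - R) ^ (p - 1) = 0 := by
    refine sub_pow_eq_zero (n := Module.finrank k V) (LinearMap.commute_mulLeft_right _ _) ?_ ?_ (by omega)
    · rw [hL, LinearMap.pow_mulLeft, hy]; exact LinearMap.mulLeft_zero_eq_zero k _
    · rw [hR, LinearMap.pow_mulRight, hy, LinearMap.mulRight_zero_eq_zero]
  have hc : Commute (L - R) Q := by
    refine Commute.sub_left (LinearMap.commute_mulLeft_right _ _) ?_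
    ext1 b
    simp only [hR, hQ, Module.End.mul_apply, LinearMap.mulRight_apply, mul_assoc]
    congr 1
    rw [mul_sub, sub_mul, ← map_mul, ← map_mul, mul_inv_cancel, inv_mul_cancel]
    simp
  rw [e, hc.mul_pow, hzero, zero_mul]

theorem exists_rHom (P : Subgroup G) (hP : Nat.card P = p) {x₀ : G} (hx : x₀ ∈ P) (hx1 : x₀ ≠ 1)
    (H : Subgroup G) (hH : H ≤ normalizer (P : Set G)) :
    orderOf x₀ = p ∧ Subgroup.zpowers x₀ = P ∧
      ∃ r : H →* (ZMod p)ˣ, ∀ t : H, (t : G) * x₀ * (t : G)⁻¹ = x₀ ^ (r t : ZMod p).val := by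
  have ho : orderOf x₀ = p := by
    have h := orderOf_dvd_natCard (⟨x₀, hx⟩ : P)
    rw [hP, orderOf_mk] at h
    exact ((Nat.dvd_prime hp.out).1 h).resolve_left fun h1 => hx1 (orderOf_eq_one_iff.1 h1)
  have hz : Subgroup.zpowers x₀ = P :=
    Subgroup.eq_of_le_of_card_ge (Subgroup.zpowers_le.2 hx) (by rw [hP, Nat.card_zpowers, ho])
  refine ⟨ho, hz, ?_⟩
  have hex : ∀ t : H, ∃ i : ℕ, (t : G) * x₀ * (t : G)⁻¹ = x₀ ^ i := fun t => by
    have h := (Subgroup.mem_normalizer_iff.1 (hH t.2) x₀).1 hx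
    rw [← hz] at h
    obtain ⟨i, hi⟩ := (mem_powers_iff_mem_zpowers.2 h)
    exact ⟨i, hi.symm⟩
  choose e he using hex
  have heq : ∀ a b : ℕ, x₀ ^ a = x₀ ^ b → (a : ZMod p) = b := fun a b h => by
    rw [ZMod.natCast_eq_natCast_iff, ← ho]
    exact pow_eq_pow_iff_modEq.1 h
  let φ : H →* ZMod p :=
    { toFun := fun t => (e t : ZMod p)
      map_one' := by
        have := heq (e 1) 1 (by rw [← he]; simp)
        simpa using this
      map_mul' := fun s t => by
        rw [← Nat.cast_mul]
        refine heq _ _ ?_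
        rw [← he, Subgroup.coe_mul, mul_inv_rev, pow_mul, ← he s, conj_pow, ← he t]
        group }
  refine ⟨φ.toHomUnits, fun t => ?_⟩
  show _ = x₀ ^ ((e t : ℕ) : ZMod p).val
  rw [ZMod.val_natCast, ← ho, pow_mod_orderOf]
  exact he t

/-- The summand exists. -/
theorem exists_summand (P : Sylow p G) (hP : Nat.card (P : Subgroup G) = p) (ρ : G →* Module.End k V)
    {x₀ : G} (hx : x₀ ∈ (P : Subgroup G)) (hρ : ρ x₀ ≠ 1) (hn : 2 * Module.finrank k V < p) :
    ∃ M, Summand ρ x₀ M := by
  classical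
  have hx1 : x₀ ≠ 1 := fun h => hρ (h ▸ map_one ρ)
  set N := normalizer ((P : Subgroup G) : Set G) with hN
  have hPN : (P : Subgroup G) ≤ N := le_normalizer
  haveI : ((P : Subgroup G).subgroupOf N).Normal := Subgroup.normal_in_normalizer
  have hcop : Nat.Coprime (Nat.card ((P : Subgroup G).subgroupOf N)) ((P : Subgroup G).subgroupOf N).index := by
    rw [Nat.card_congr (Subgroup.subgroupOfEquivOfLe hPN).toEquiv, hP, ← Subgroup.relIndex,
      hp.out.coprime_iff_not_dvd]
    exact fun h => P.not_dvd_index (h.trans (Subgroup.relIndex_dvd_index_of_le hPN))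
  obtain ⟨K, hK⟩ := Subgroup.exists_right_complement'_of_coprime hcop
  set H₀ : Subgroup G := K.map N.subtype with hH₀
  have hH₀N : H₀ ≤ N := Subgroup.map_subtype_le K
  obtain ⟨ho, hz, r, hr⟩ := exists_rHom (p := p) (P : Subgroup G) hP hx hx1 H₀ hH₀N
  have hH₀p : ¬ p ∣ Nat.card H₀ := by
    rw [hH₀, Subgroup.card_map_of_injective N.subtype_injective, ← hK.symm.index_eq_card]
    intro h
    rw [← Subgroup.relIndex] at h
    exact P.not_dvd_index (h.trans (Subgroup.relIndex_dvd_index_of_le hPN))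
  have hxp : ρ x₀ ^ p = 1 := by rw [← map_pow, ← ho, pow_orderOf_eq_one, map_one]
  have hp2 : p ≠ 2 := by
    intro h
    haveI : Subsingleton V := (Module.finrank_zero_iff (R := k)).1 (by omega)
    exact hρ (LinearMap.ext fun v => Subsingleton.elim _ _)
  obtain ⟨a, h, f, T⟩ := exists_triple (p := p) (τ := ρ.comp H₀.subtype) hxp hρ hn hH₀p r (fun t => by
    show ρ (t : G) * ρ x₀ = ρ x₀ ^ _ * ρ (t : G)
    rw [← map_mul, ← map_pow, ← map_mul, ← hr, inv_mul_cancel_right])
  set X := adj ρ x₀ with hX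
  set Δ := X - 1 with hΔ
  set π := proj3 a h f with hπ
  set U := span3 a h f with hU
  -- stability of the span
  have hxa : X a = a := adj_eq_of ρ _ _ _ T.xa
  have hxh : X h = h + (2 : k) • a := adj_eq_of ρ _ _ _ T.xh
  have hxf : X f = f - h - a := adj_eq_of ρ _ _ _ T.xf
  let S : Submonoid G :=
    { carrier := {g | ∀ e ∈ U, adj ρ g e ∈ U}
      one_mem' := fun e he => by rw [map_one]; exact he
      mul_mem' := fun {g g'} hg hg' e he => by rw [← adj_mul_apply]; exact hg _ (hg' e he) }
  have hgen : ∀ (g : G), adj ρ g a ∈ U → adj ρ g h ∈ U → adj ρ g f ∈ U → g ∈ S := by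
    intro g h1 h2 h3 e he
    obtain ⟨s, t, u, rfl⟩ := mem_span3.1 he
    simp only [map_add, map_smul]
    exact add_mem (add_mem (U.smul_mem _ h1) (U.smul_mem _ h2)) (U.smul_mem _ h3)
  have ha' : a ∈ U := Submodule.subset_span (by simp)
  have hh' : h ∈ U := Submodule.subset_span (by simp)
  have hf' : f ∈ U := Submodule.subset_span (by simp)
  have hSinv : ∀ g ∈ S, g⁻¹ ∈ S := fun g hg => by
    obtain ⟨n, hn⟩ := (mem_powers_iff_mem_zpowers.2 (inv_mem (Subgroup.mem_zpowers g)) :
      g⁻¹ ∈ Submonoid.powers g)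
    exact hn ▸ pow_mem hg n
  let SG : Subgroup G := { S with inv_mem' := fun {g} hg => hSinv g hg }
  have hNS : N ≤ SG := by
    have h1 : (P : Subgroup G) ≤ SG := by
      rw [← hz, Subgroup.zpowers_le]
      refine hgen x₀ ?_ ?_ ?_
      · rw [← hX, hxa]; exact ha'
      · rw [← hX, hxh]; exact add_mem hh' (U.smul_mem _ ha')
      · rw [← hX, hxf]; exact sub_mem (sub_mem hf' hh') ha'
    have h2 : H₀ ≤ SG := fun t ht => by
      refine hgen t ?_ ?_ ?_
      · rw [adj_eq_of ρ t a _ ((T.τa ⟨t, ht⟩).trans (smul_mul_assoc _ _ _).symm)]; exact U.smul_mem _ ha'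
      · rw [adj_eq_of ρ t h h (T.τh ⟨t, ht⟩)]; exact hh'
      · rw [adj_eq_of ρ t f _ ((T.τf ⟨t, ht⟩).trans (smul_mul_assoc _ _ _).symm)]; exact U.smul_mem _ hf'
    intro n hn
    have htop : (⟨n, hn⟩ : N) ∈ (⊤ : Subgroup N) := Subgroup.mem_top _
    rw [← hK.sup_eq_top] at htop
    have : ((P : Subgroup G).subgroupOf N ⊔ K) ≤ SG.comap N.subtype :=
      sup_le (fun y hy => h1 hy) (Subgroup.map_le_iff_le_comap.1 h2)
    exact this htop
  have hπN : ∀ n ∈ N, Commute (adj ρ n) π := by
    intro n hn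
    ext1 v
    show adj ρ n (π v) = π (adj ρ n v)
    set d := adj ρ n (π v) - π (adj ρ n v) with hd
    have hdU : d ∈ U := sub_mem (hNS hn _ (proj3_mem _ _ _ _)) (proj3_mem _ _ _ _)
    have horth : ∀ u ∈ U, tr (d * u) = 0 := fun u hu => by
      rw [hd, sub_mul, show ∀ b g : Module.End k V, tr (b - g) = tr b - tr g from fun b g => map_sub _ _ _,
        adj_isometry, hπ, proj3_selfAdjoint, T.proj3_eq hp2 (hNS (inv_mem hn) u hu), proj3_selfAdjoint,
        T.proj3_eq hp2 hu, adj_isometry, sub_self]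
    have h0 : d = 0 := by
      rw [← T.proj3_eq hp2 hdU, proj3_apply, horth f hf', horth h hh', horth a ha']
      simp
    exact sub_eq_zero.1 h0
  have hππ : π * π = π := LinearMap.ext fun v => T.proj3_eq hp2 (proj3_mem _ _ _ _)
  -- the relative trace
  let F : G → Module.End k (Module.End k V) := fun g => adj ρ g * π * adj ρ g⁻¹
  have hFn : ∀ g, ∀ n ∈ N, F (g * n) = F g := fun g n hn => by
    simp only [F, mul_inv_rev, map_mul]
    rw [mul_assoc (adj ρ g) (adj ρ n) π, (hπN n hn).eq, mul_assoc, mul_assoc, mul_assoc,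
      ← mul_assoc (adj ρ n), ← map_mul (adj ρ) n, mul_inv_cancel, map_one, one_mul]
  let Fq : G ⧸ N → Module.End k (Module.End k V) := fun q => F q.out
  have hFmk : ∀ g : G, Fq (g : G ⧸ N) = F g := fun g => by
    obtain ⟨n, hn⟩ := QuotientGroup.mk_out_eq_mul N g
    show F _ = _
    rw [hn, hFn g n n.2]
  have hFsmul : ∀ (g : G) (q : G ⧸ N), Fq (g • q) = adj ρ g * Fq q * adj ρ g⁻¹ := fun g q => by
    induction q using QuotientGroup.induction_on with | H b => ?_
    rw [MulAction.Quotient.smul_mk, hFmk, hFmk]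
    simp only [F, smul_eq_mul, mul_inv_rev, map_mul, mul_assoc]
  haveI := Fintype.ofFinite (G ⧸ N)
  set TT := ∑ q, Fq q with hTT
  have hTG : ∀ g, Commute (adj ρ g) TT := fun g => by
    show adj ρ g * TT = TT * adj ρ g
    rw [hTT, Finset.mul_sum, Finset.sum_mul]
    refine Fintype.sum_equiv (MulAction.toPerm g) _ _ fun q => ?_
    rw [MulAction.toPerm_apply, hFsmul, mul_assoc, ← map_mul, inv_mul_cancel, map_one, mul_one]
  have hcX : ∀ φ, Commute (adj ρ x₀) φ → Commute φ Δ := fun φ hφ => hφ.symm.sub_right (Commute.one_right φ)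
  have hcT : Commute TT Δ := hcX _ (hTG x₀)
  have hcπ : Commute π Δ := hcX _ (hπN x₀ (hPN hx))
  -- the other cosets
  have hD : InJ Δ (TT - π) := by
    refine ⟨hcT.sub_left hcπ, ?_⟩
    set q₁ : G ⧸ N := ((1 : G) : G ⧸ N) with hq₁
    have hfix : ∀ q : G ⧸ N, x₀ • q = q → q = q₁ := fun q hq => by
      induction q using QuotientGroup.induction_on with | H b => ?_
      rw [MulAction.Quotient.smul_mk, QuotientGroup.eq, smul_eq_mul] at hq
      have hmem : b⁻¹ * x₀ * b ∈ N := by
        have := inv_mem hq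
        simpa [mul_assoc] using this
      have hbP : b⁻¹ * x₀ * b ∈ (P : Subgroup G) := by
        have hpg : IsPGroup p (Subgroup.zpowers (b⁻¹ * x₀ * b)) :=
          IsPGroup.of_card (n := 1) (by
            rw [Nat.card_zpowers, pow_one, ← ho]
            exact orderOf_injective (MulAut.conj b⁻¹).toMonoidHom (MulAut.conj b⁻¹).injective x₀ ▸
              congrArg orderOf (show b⁻¹ * x₀ * b = MulAut.conj b⁻¹ x₀ by simp))
        have h1 : Subgroup.zpowers (b⁻¹ * x₀ * b) ⊓ N = Subgroup.zpowers (b⁻¹ * x₀ * b) ⊓ (P : Subgroup G) :=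
          hpg.inf_normalizer_sylow P
        have h2 : b⁻¹ * x₀ * b ∈ Subgroup.zpowers (b⁻¹ * x₀ * b) ⊓ N :=
          ⟨Subgroup.mem_zpowers _, hmem⟩
        rw [h1] at h2
        exact h2.2
      have hbN : b ∈ N := by
        have hle : (P : Subgroup G).map (MulAut.conj b⁻¹).toMonoidHom ≤ P := by
          rw [← hz, MonoidHom.map_zpowers, Subgroup.zpowers_le, hz]
          simpa using hbP
        have heq := Subgroup.eq_of_le_of_card_ge hle
          (Subgroup.card_map_of_injective (MulAut.conj b⁻¹).injective).ge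
        have hbi : b⁻¹ ∈ N := Subgroup.mem_normalizer_iff.2 fun y => by
          constructor
          · intro hy
            show _ ∈ (P : Subgroup G)
            rw [← heq]
            exact ⟨y, hy, by simp⟩
          · intro hy
            rw [← heq] at hy
            obtain ⟨z, hz1, hz2⟩ := hy
            have hzy : z = y := (MulAut.conj b⁻¹).injective (by simpa using hz2)
            exact hzy ▸ hz1
        simpa using inv_mem hbi
      rw [hq₁, eq_comm, QuotientGroup.eq]
      simpa using hbN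
    have hπ1 : Fq q₁ = π := by rw [hq₁, hFmk]; simp [F]
    have hsplit : TT - π = ∑ q ∈ Finset.univ.erase q₁, Fq q := by
      rw [hTT, ← Finset.add_sum_erase _ _ (Finset.mem_univ q₁), hπ1, add_sub_cancel_left]
    rw [hsplit]
    -- orbits of length `p`
    let Ω := {q : G ⧸ N // q ≠ q₁}
    have hstep : ∀ q : Ω, x₀ • (q : G ⧸ N) ≠ q₁ := fun q hq => q.2 (by
      have h1 : x₀ • q₁ = q₁ := by
        rw [hq₁, MulAction.Quotient.smul_mk, QuotientGroup.eq, smul_eq_mul, mul_one, mul_one]
        exact inv_mem (hPN hx)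
      exact MulAction.injective x₀ (hq.trans h1.symm))
    have hpow : ∀ (i : ℕ) (q : Ω), x₀ ^ i • (q : G ⧸ N) ≠ q₁ := fun i => by
      induction i with
      | zero => exact fun q => by rw [pow_zero, one_smul]; exact q.2
      | succ i ih => exact fun q => by rw [pow_succ', mul_smul]; exact hstep ⟨_, ih q⟩
    letI act : MulAction (Subgroup.zpowers x₀) Ω :=
      { smul := fun t q => ⟨(t : G) • (q : G ⧸ N), by
          obtain ⟨i, hi⟩ := mem_powers_iff_mem_zpowers.2 t.2
          rw [← hi]; exact hpow i q⟩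
        one_smul := fun q => Subtype.ext (one_smul G (q : G ⧸ N))
        mul_smul := fun s t q => Subtype.ext (mul_smul (s : G) (t : G) (q : G ⧸ N)) }
    have hfree : ∀ (s t : Subgroup.zpowers x₀) (q : Ω), s • q = t • q → s = t := fun s t q h => by
      by_contra hne
      set d := t⁻¹ * s with hd
      have hdne : (d : G) ≠ 1 := fun e => hne (by
        have : d = 1 := Subtype.ext e
        rw [hd, inv_mul_eq_one] at this
        exact this.symm)
      have hdfix : (d : G) • (q : G ⧸ N) = q := by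
        have : d • q = q := by rw [hd, mul_smul, h, inv_smul_smul]
        exact congrArg Subtype.val this
      have hdgen : Subgroup.zpowers (d : G) = Subgroup.zpowers x₀ := by
        refine Subgroup.eq_of_le_of_card_ge (Subgroup.zpowers_le.2 d.2) ?_
        rw [Nat.card_zpowers, Nat.card_zpowers, ho]
        refine (orderOf_eq_prime ?_ hdne).ge
        have h := pow_card_eq_one' (G := Subgroup.zpowers x₀) (x := d)
        rw [Nat.card_zpowers, ho] at h
        exact congrArg Subtype.val h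
      have hmem : x₀ ∈ Subgroup.zpowers (d : G) := by rw [hdgen]; exact Subgroup.mem_zpowers x₀
      obtain ⟨i, hi⟩ := mem_powers_iff_mem_zpowers.2 hmem
      refine q.2 (hfix _ ?_)
      rw [← hi]
      exact (MulAction.stabilizer G (q : G ⧸ N)).pow_mem hdfix i
    let O := Quotient (MulAction.orbitRel (Subgroup.zpowers x₀) Ω)
    let b : O × Subgroup.zpowers x₀ → Ω := fun ot => ot.2 • ot.1.out
    have hb : Function.Bijective b := by
      constructor
      · rintro ⟨o, t⟩ ⟨o', t'⟩ h
        have ho' : o = o' := by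
          rw [← o.out_eq, ← o'.out_eq]
          refine Quotient.sound ?_
          refine ⟨t⁻¹ * t', ?_⟩
          show (t⁻¹ * t') • o'.out = o.out
          rw [mul_smul]
          have h' : t • o.out = t' • o'.out := h
          rw [← h', inv_smul_smul]
        subst ho'
        exact Prod.ext rfl (hfree _ _ _ h)
      · intro q
        obtain ⟨t, ht⟩ := Quotient.exact (Quotient.out_eq (Quotient.mk (MulAction.orbitRel (Subgroup.zpowers x₀) Ω) q))
        refine ⟨(Quotient.mk _ q, t⁻¹), ?_⟩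
        show t⁻¹ • _ = q
        rw [← ht]
        exact inv_smul_smul t q
    intro e
    haveI := Fintype.ofFinite O
    haveI := Fintype.ofFinite (Subgroup.zpowers x₀)
    haveI := Fintype.ofFinite Ω
    rw [Finset.sum_subtype (p := fun q => q ≠ q₁) (F := inferInstanceAs (Fintype Ω)) _ (fun q => by simp) Fq,
      ← Equiv.sum_comp (Equiv.ofBijective b hb) (fun q : Ω => Fq (q : G ⧸ N)), Fintype.sum_prod_type,
      LinearMap.sum_apply]
    have hone : ∀ o : O, ∃ e', (∑ t : Subgroup.zpowers x₀, Fq ((b (o, t) : Ω) : G ⧸ N)) e = Δ e' := by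
      intro o
      set ψ := Fq ((o.out : Ω) : G ⧸ N) with hψ
      have hterm : ∀ t : Subgroup.zpowers x₀, ∃ e', (Fq ((b (o, t) : Ω) : G ⧸ N)) e = ψ (adj ρ (t : G)⁻¹ e) + Δ e' := by
        intro t
        show ∃ e', Fq ((t : G) • ((o.out : Ω) : G ⧸ N)) e = _
        rw [hFsmul, Module.End.mul_apply, Module.End.mul_apply, ← hψ]
        set v := ψ (adj ρ (t : G)⁻¹ e) with hv
        obtain ⟨i, hi⟩ := mem_powers_iff_mem_zpowers.2 t.2
        refine ⟨(∑ j ∈ Finset.range i, X ^ j) v, ?_⟩
        rw [← hi, map_pow, hΔ]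
        show (X ^ i) v = v + ((X - 1) * ∑ j ∈ Finset.range i, X ^ j) v
        rw [mul_geom_sum, LinearMap.sub_apply, Module.End.one_apply]
        abel
      choose e' he' using hterm
      refine ⟨∑ t, e' t, ?_⟩
      rw [LinearMap.sum_apply, Finset.sum_congr rfl fun t _ => he' t, Finset.sum_add_distrib, ← map_sum,
        ← map_sum]
      have hsum : ∑ t : Subgroup.zpowers x₀, adj ρ (t : G)⁻¹ e = 0 := by
        have h1 : ∑ t : Subgroup.zpowers x₀, adj ρ (t : G)⁻¹ e = ∑ i : Fin p, (X ^ (i : ℕ)) e := by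
          symm
          refine Fintype.sum_equiv ((finCongr ho.symm).trans (finEquivZPowers (isOfFinOrder_of_finite x₀)) |>.trans
            (Equiv.inv _)) _ _ fun i => ?_
          simp [finEquivZPowers_apply, hX, map_pow]
        have h2 : ∑ i ∈ Finset.range p, X ^ i = Δ ^ (p - 1) := by
          have := congrArg (Polynomial.aeval X) (sum_X_pow (p := p) (k := k))
          have hs : ∑ a : ZMod p, X ^ a.val = ∑ i ∈ Finset.range p, X ^ i := by
            refine Finset.sum_nbij ZMod.val (fun a _ => Finset.mem_range.2 (ZMod.val_lt a))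
              (fun a _ b _ h => ZMod.val_injective p h) (fun i hi => ⟨((i : ℕ) : ZMod p), by simp, ?_⟩)
              fun a _ => rfl
            exact ZMod.val_cast_of_lt (Finset.mem_range.1 hi)
          simpa [map_sum, hΔ, hs] using this
        rw [h1, Fin.sum_univ_eq_sum_range (fun i => (X ^ i) e) p, ← LinearMap.sum_apply, h2,
          adj_sub_one_pow (p := p) ρ hxp hn, LinearMap.zero_apply]
      rw [hsum, map_zero, zero_add]
    choose e' he' using hone
    exact ⟨∑ o, e' o, by rw [map_sum]; exact Finset.sum_congr rfl fun o _ => he' o⟩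
  -- lifting the idempotent
  have hΔN : Δ ^ (p - 1) = 0 := adj_sub_one_pow (p := p) ρ hxp hn
  set C : Set (Module.End k (Module.End k V)) := {φ | Commute φ Δ} with hC
  have hcong : ∀ {A A' B B' : Module.End k (Module.End k V)}, Commute A Δ → Commute B' Δ →
      InJ Δ (A - A') → InJ Δ (B - B') → InJ Δ (A * B - A' * B') := by
    intro A A' B B' hA hB' h1 h2
    have := (h2.mul_left hA).add (h1.mul_right hB')
    rwa [show A * (B - B') + (A - A') * B' = A * B - A' * B' by rw [mul_sub, sub_mul]; abel] at this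
  obtain ⟨N', hN'⟩ : IsNilpotent (TT * (1 - TT)) := by
    refine InJ.isNilpotent ?_ hΔN
    have h1 : InJ Δ ((1 - TT) - (1 - π)) := by
      have := hD.neg
      rwa [show -(TT - π) = 1 - TT - (1 - π) by abel] at this
    have := hcong hcT ((Commute.one_left Δ).sub_left hcπ) hD h1
    rwa [mul_sub π, mul_one, hππ, sub_self, sub_zero] at this
  set n₀ := N' + 1 with hn₀
  have hcpow : ∀ i, Commute (TT ^ i) Δ := fun i => hcT.pow_left i
  have hTpow : ∀ i, InJ Δ (TT ^ (i + 1) - π) := fun i => by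
    induction i with
    | zero => simpa using hD
    | succ i ih =>
      have := hcong (hcpow (i + 1)) hcπ ih hD
      rwa [hππ, ← pow_succ] at this
  set U' := 1 - TT ^ n₀ with hU'
  have hU'c : Commute U' Δ := (Commute.one_left Δ).sub_left (hcpow n₀)
  have hU'J : InJ Δ (U' - (1 - π)) := by
    have := (hTpow N').neg
    rwa [show -(TT ^ (N' + 1) - π) = U' - (1 - π) by rw [hU', hn₀]; abel] at this
  have hUpow : ∀ i, InJ Δ (U' ^ (i + 1) - (1 - π)) := fun i => by
    induction i with
    | zero => simpa using hU'J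
    | succ i ih =>
      have := hcong (hU'c.pow_left (i + 1)) ((Commute.one_left Δ).sub_left hcπ) ih hU'J
      rwa [← pow_succ, show (1 - π) * (1 - π) = 1 - π by rw [mul_sub, sub_mul, sub_mul, hππ]; simp] at this
  set E := 1 - U' ^ n₀ with hE
  have hEJ : InJ Δ (E - π) := by
    have := (hUpow N').neg
    rwa [show -(U' ^ (N' + 1) - (1 - π)) = E - π by rw [hE, hn₀]; abel] at this
  have hEE : E * E = E := by
    set e : k[X] := 1 - (1 - Polynomial.X ^ n₀) ^ n₀ with he
    have h1 : (Polynomial.X : k[X]) ^ n₀ ∣ e := by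
      have := sub_dvd_pow_sub_pow (1 : k[X]) (1 - Polynomial.X ^ n₀) n₀
      rwa [one_pow, sub_sub_cancel] at this
    have h2 : (1 - Polynomial.X : k[X]) ^ n₀ ∣ 1 - e := by
      rw [he, sub_sub_cancel]
      refine pow_dvd_pow_of_dvd ?_ _
      have := sub_dvd_pow_sub_pow (1 : k[X]) Polynomial.X n₀
      rwa [one_pow] at this
    obtain ⟨Q, hQ⟩ := mul_dvd_mul h1 h2
    rw [← mul_pow] at hQ
    have h0 : aeval TT (e * (1 - e)) = 0 := by
      rw [hQ, map_mul, map_pow, map_mul, map_sub, map_one, aeval_X, hn₀, pow_succ, hN', zero_mul, zero_mul]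
    have hEe : E = aeval TT e := by simp [he, hE, hU']
    clear_value e
    rw [map_mul, map_sub, map_one, ← hEe, mul_sub, mul_one, sub_eq_zero] at h0
    exact h0.symm
  have hEG : ∀ g, Commute (adj ρ g) E := fun g =>
    (Commute.one_right _).sub_right (((Commute.one_right _).sub_right ((hTG g).pow_right n₀)).pow_right n₀)
  have hEc : Commute E Δ := hcX _ (hEG x₀)
  -- self-adjointness
  have hTsa : SelfAdj TT := by
    intro v v'
    rw [hTT, LinearMap.sum_apply, LinearMap.sum_apply, Finset.sum_mul, Finset.mul_sum]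
    simp only [tr, map_sum]
    refine Finset.sum_congr rfl fun q _ => ?_
    show tr (adj ρ q.out (π (adj ρ q.out⁻¹ v)) * v') = tr (v * adj ρ q.out (π (adj ρ q.out⁻¹ v')))
    rw [adj_isometry, hπ, proj3_selfAdjoint, adj_isometry, inv_inv]
  have hEsa : SelfAdj E := (SelfAdj.one.sub ((SelfAdj.one.sub (hTsa.pow n₀)).pow n₀))
  clear_value E
  -- the conjugating unit
  set u := E * π + (1 - E) * (1 - π) with hu
  have huc : Commute u Δ := (hEc.mul_left hcπ).add_left
    (((Commute.one_left Δ).sub_left hEc).mul_left ((Commute.one_left Δ).sub_left hcπ))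
  have huinj : Function.Injective u := by
    have h2π : Commute (π + π - 1) Δ := (hcπ.add_left hcπ).sub_left (Commute.one_left Δ)
    have hnil : IsNilpotent (u - 1) := by
      refine InJ.isNilpotent ?_ hΔN
      have := hEJ.mul_right h2π
      rwa [show (E - π) * (π + π - 1) = u - 1 by
        rw [hu]
        simp only [mul_sub, sub_mul, mul_add, one_mul, mul_one, hππ]
        abel] at this
    have hunit : IsUnit u := by simpa using hnil.isUnit_one_add
    exact ((Module.End.isUnit_iff u).1 hunit).1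
  have hπu : u * π = E * u := by
    have h1 : u * π = E * π := by
      rw [hu, add_mul, mul_assoc E, hππ, mul_assoc (1 - E), sub_mul (1 : Module.End k (Module.End k V)) π, one_mul,
        hππ, sub_self, mul_zero, add_zero]
    have h2 : E * u = E * π := by
      rw [hu, mul_add, ← mul_assoc, ← mul_assoc, hEE, mul_sub E, mul_one, hEE, sub_self, zero_mul, add_zero]
    rw [h1, h2]
  have hrange : LinearMap.range E = U.map u := by
    ext e
    simp only [LinearMap.mem_range, Submodule.mem_map]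
    constructor
    · rintro ⟨v, rfl⟩
      obtain ⟨v', rfl⟩ := LinearMap.surjective_of_injective huinj v
      exact ⟨π v', proj3_mem _ _ _ _, LinearMap.congr_fun hπu v'⟩
    · rintro ⟨v, hv, rfl⟩
      exact ⟨u v, by rw [← Module.End.mul_apply, ← hπu, Module.End.mul_apply, T.proj3_eq hp2 hv]⟩
  have hΔa : Δ a = 0 := by rw [hΔ, LinearMap.sub_apply, hxa, Module.End.one_apply, sub_self]
  have hΔh : Δ h = (2 : k) • a := by rw [hΔ, LinearMap.sub_apply, hxh, Module.End.one_apply, add_sub_cancel_left]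
  have hΔf : Δ f = -h - a := by rw [hΔ, LinearMap.sub_apply, hxf, Module.End.one_apply]; abel
  have hΔ2f : (Δ ^ 2) f = -((2 : k) • a) := by
    rw [pow_two, Module.End.mul_apply, hΔf, map_sub, map_neg, hΔh, hΔa, sub_zero]
  refine ⟨LinearMap.range E, ⟨?_, ?_, ?_, ?_, ?_⟩⟩
  · rintro g _ ⟨v, rfl⟩
    exact ⟨adj ρ g v, (LinearMap.congr_fun (hEG g) v).symm⟩
  · rw [hrange, ← (Submodule.equivMapOfInjective u huinj U).finrank_eq]
    exact T.finrank_span3 hp2
  · rintro _ ⟨v, rfl⟩ hall
    refine eq_zero_of_tr fun w => ?_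
    rw [← LinearMap.congr_fun hEE v, Module.End.mul_apply, hEsa]
    exact hall _ ⟨w, rfl⟩
  · rw [hrange]
    rintro _ ⟨v, hv, rfl⟩
    obtain ⟨s, t, r', rfl⟩ := mem_span3.1 hv
    show ((Δ ^ 3) (u _)) = 0
    rw [← Module.End.mul_apply, (huc.pow_right 3).symm.eq, Module.End.mul_apply]
    have e3 : ∀ z, (Δ ^ 3) z = Δ (Δ (Δ z)) := fun z => rfl
    simp [e3, hΔa, hΔh, hΔf]
  · refine ⟨u f, hrange ▸ Submodule.mem_map_of_mem hf', ?_⟩
    show ((Δ ^ 2) (u f)) ≠ 0
    rw [← Module.End.mul_apply, (huc.pow_right 2).symm.eq, Module.End.mul_apply, hΔ2f, map_neg, map_smul]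
    intro h0
    have h1 := (smul_eq_zero.1 (neg_eq_zero.1 h0)).resolve_left (T.two_ne hp2)
    have : a = 0 := huinj (h1.trans (map_zero u).symm)
    exact T.af (by rw [this, zero_mul]; exact map_zero _)

end Cfsg.Agent.BlocksChars.HalfDegree
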