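import Cfsg.Agent.BlocksChars.HalfDegree.Units
import Cfsg.Agent.BlocksChars.HalfDegree.Poly

/-!
# Half degree: an invariant three-dimensional triple in the endomorphisms
-/

set_option autoImplicit false
set_option linter.style.haveILetI false
set_option linter.unusedSectionVars false
set_option linter.unusedVariables false

namespace Cfsg.Agent.BlocksChars.HalfDegree

open Polynomial

universe u v w₁

variable {k : Type u} [Field k] {p : ℕ} [hp : Fact p.Prime] [CharP k p]
variable {V : Type v} [AddCommGroup V] [Module k V] [FiniteDimensional k V]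

/-- The trace form. -/
noncomputable def tr (e : Module.End k V) : k := LinearMap.trace k V e

theorem tr_comm (e g : Module.End k V) : tr (e * g) = tr (g * e) := LinearMap.trace_mul_comm k e g

/-- A triple spanning a nondegenerate three-dimensional subspace stable under `x` and under `τ`. -/
structure Triple {H : Type w₁} [Group H] (x : Module.End k V) (τ : H →* Module.End k V)
    (c : H →* kˣ) (a h f : Module.End k V) : Prop where
  xa : x * a = a * x
  xh : x * h = (h + (2 : k) • a) * x
  xf : x * f = (f - h - a) * x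
  aa : tr (a * a) = 0
  ah : tr (a * h) = 0
  hf : tr (h * f) = 0
  ff : tr (f * f) = 0
  af : tr (a * f) ≠ 0
  hh : tr (h * h) = 2 * tr (a * f)
  τa : ∀ t, τ t * a = (c t : k) • (a * τ t)
  τh : ∀ t, τ t * h = h * τ t
  τf : ∀ t, τ t * f = ((c t)⁻¹ : kˣ).1 • (f * τ t)

variable {x : Module.End k V}

theorem sub_one_pow_finrank (hxp : x ^ p = 1) : (x - 1) ^ Module.finrank k V = 0 := by
  rcases subsingleton_or_nontrivial V with hV | hV
  · exact LinearMap.ext fun v => Subsingleton.elim _ _
  haveI : CharP (Module.End k V) p := charP_of_injective_algebraMap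
    (FaithfulSMul.algebraMap_injective k (Module.End k V)) p
  have hnil : IsNilpotent (x - 1) := ⟨p, by
    rw [sub_pow_char_of_commute p (Commute.one_right x), hxp, one_pow, sub_self]⟩
  have h := LinearMap.aeval_self_charpoly (x - 1)
  rwa [IsNilpotent.charpoly_eq_X_pow_finrank hnil, map_pow, aeval_X] at h

/-- The exponent of nilpotency of `x - 1`. -/
theorem exists_exponent (hxp : x ^ p = 1) (hx1 : x ≠ 1) (hn : 2 * Module.finrank k V < p) :
    ∃ m : ℕ, 1 ≤ m ∧ 2 * m + 3 ≤ p ∧ (aeval x (logPoly p k)) ^ (m + 1) = 0 ∧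
      (aeval x (logPoly p k)) ^ m ≠ 0 := by
  classical
  have hp2 : p ≠ 2 := by
    intro h
    subst h
    haveI : Subsingleton V := (Module.finrank_zero_iff (R := k)).1 (by omega)
    exact hx1 (LinearMap.ext fun v => Subsingleton.elim _ _)
  obtain ⟨R, hR⟩ := exists_logPoly_eq (p := p) (k := k) hp2
  set y := x - 1 with hy
  set w := aeval x (logPoly p k) with hw
  have hyn : y ^ Module.finrank k V = 0 := sub_one_pow_finrank (p := p) hxp
  have hwy : w = y * (1 + y * aeval x R) := by
    rw [hw, hR, hy]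
    simp only [map_add, map_mul, map_pow, map_sub, aeval_X, map_one, pow_two, mul_add, mul_one, mul_assoc]
  have hc : Commute y (1 + y * aeval x R) := by
    have e : y = aeval x (X - 1 : k[X]) := by simp [hy]
    rw [e, ← map_mul, ← map_one (aeval (R := k) x), ← map_add]
    exact Commute.map (Commute.all _ _) _
  have hwn : w ^ Module.finrank k V = 0 := by rw [hwy, hc.mul_pow, hyn, zero_mul]
  have hex : ∃ l, w ^ l = 0 := ⟨_, hwn⟩
  have hl := Nat.find_min' hex hwn
  obtain ⟨m, hm⟩ : ∃ m, Nat.find hex = m + 1 := by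
    refine Nat.exists_eq_add_one.2 (Nat.pos_of_ne_zero fun h => ?_)
    have h1 := Nat.find_spec hex
    rw [h, pow_zero] at h1
    exact hx1 (LinearMap.ext fun v => by
      have h2 : (1 : Module.End k V) v = (0 : Module.End k V) v := by rw [h1]
      simp only [Module.End.one_apply, LinearMap.zero_apply] at h2
      rw [h2, map_zero, map_zero])
  refine ⟨m, ?_, by omega, by rw [← hm]; exact Nat.find_spec hex, Nat.find_min hex (by omega)⟩
  by_contra hm0
  have h1 := Nat.find_spec hex
  rw [hm, show m = 0 by omega, zero_add, pow_one, hwy] at h1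
  have hu : IsUnit (1 + y * aeval x R) := by
    refine IsNilpotent.isUnit_one_add ⟨Module.finrank k V, ?_⟩
    have e : y = aeval x (X - 1 : k[X]) := by simp [hy]
    have hc' : Commute y (aeval x R) := by rw [e]; exact Commute.map (Commute.all _ _) _
    rw [hc'.mul_pow, hyn, zero_mul]
  exact hx1 (sub_eq_zero.1 ((hu.mul_left_eq_zero).1 h1))

theorem exists_inner_inverse (u : Module.End k V) : ∃ Y : Module.End k V, u * Y * u = u := by
  obtain ⟨s, hs⟩ := LinearMap.exists_rightInverse_of_surjective u.rangeRestrict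
    (LinearMap.range_rangeRestrict u)
  obtain ⟨Y, hY⟩ := LinearMap.exists_extend s
  refine ⟨Y, LinearMap.ext fun v => ?_⟩
  have h1 : Y (u v) = s (u.rangeRestrict v) := by rw [← hY]; rfl
  have h2 := LinearMap.congr_fun hs (u.rangeRestrict v)
  show u (Y (u v)) = u v
  rw [h1]
  exact congrArg Subtype.val h2

variable {H : Type w₁} [Group H] [Finite H]

/-- The weight predicate. -/
def Wt (τ : H →* Module.End k V) (c : H →* kˣ) (j : ℤ) (e : Module.End k V) : Prop :=
  ∀ t, τ t * e = ((c t ^ j : kˣ) : k) • (e * τ t)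

theorem Wt.mul {τ : H →* Module.End k V} {c : H →* kˣ} {i j : ℤ} {e g : Module.End k V}
    (he : Wt τ c i e) (hg : Wt τ c j g) : Wt τ c (i + j) (e * g) := fun t => by
  rw [← mul_assoc, he, smul_mul_assoc, mul_assoc, hg, mul_smul_comm, smul_smul, ← Units.val_mul,
    ← zpow_add, mul_assoc]

theorem Wt.sub {τ : H →* Module.End k V} {c : H →* kˣ} {j : ℤ} {e g : Module.End k V}
    (he : Wt τ c j e) (hg : Wt τ c j g) : Wt τ c j (e - g) := fun t => by
  rw [mul_sub, he, hg, sub_mul, smul_sub]

theorem Wt.one {τ : H →* Module.End k V} {c : H →* kˣ} : Wt τ c 0 (1 : Module.End k V) := fun t => by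
  simp

theorem Wt.pow {τ : H →* Module.End k V} {c : H →* kˣ} {e : Module.End k V} (he : Wt τ c 1 e) :
    ∀ i : ℕ, Wt τ c (i : ℤ) (e ^ i)
  | 0 => by simpa using Wt.one
  | i + 1 => by rw [pow_succ]; push_cast; exact (Wt.pow he i).mul he

theorem Wt.smul {τ : H →* Module.End k V} {c : H →* kˣ} {j : ℤ} {e : Module.End k V}
    (he : Wt τ c j e) (s : k) : Wt τ c j (s • e) := fun t => by
  rw [mul_smul_comm, he, smul_mul_assoc, smul_comm]

theorem Wt.sum {τ : H →* Module.End k V} {c : H →* kˣ} {j : ℤ} {ι : Type*} (s : Finset ι)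
    {e : ι → Module.End k V} (he : ∀ i ∈ s, Wt τ c j (e i)) : Wt τ c j (∑ i ∈ s, e i) := fun t => by
  rw [Finset.mul_sum, Finset.sum_mul, Finset.smul_sum]
  exact Finset.sum_congr rfl fun i hi => he i hi t

/-- An equivariant partial inverse of the top power. -/
theorem exists_partInv (τ : H →* Module.End k V) (c : H →* kˣ) (hH : (Nat.card H : k) ≠ 0)
    {w : Module.End k V} {m : ℕ} (hw : Wt τ c 1 w) (h0 : w ^ (m + 1) = 0) (hne : w ^ m ≠ 0) :
    ∃ L, IsPartInv w L m ∧ Wt τ c (-(m : ℤ)) L := by
  classical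
  haveI := Fintype.ofFinite H
  set u := w ^ m with hu
  obtain ⟨Y₀, hY₀⟩ := exists_inner_inverse u
  set g : H → Module.End k V := fun t => ((c t ^ (m : ℤ) : kˣ) : k) • (τ t * Y₀ * τ t⁻¹) with hg
  set Y := (Nat.card H : k)⁻¹ • ∑ t, g t with hY
  have hτi : ∀ t : H, τ t * τ t⁻¹ = 1 := fun t => by rw [← map_mul, mul_inv_cancel, map_one]
  have hτi' : ∀ t : H, τ t⁻¹ * τ t = 1 := fun t => by rw [← map_mul, inv_mul_cancel, map_one]
  have hYwt : Wt τ c (-(m : ℤ)) Y := by
    refine Wt.smul ?_ _
    intro s
    rw [Finset.mul_sum, Finset.sum_mul, Finset.smul_sum]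
    refine Fintype.sum_equiv (Equiv.mulLeft s) _ _ fun t => ?_
    simp only [hg, Equiv.coe_mulLeft, mul_smul_comm, smul_mul_assoc, smul_smul, mul_inv_rev, map_mul,
      mul_assoc, hτi', mul_one, ← Units.val_mul]
    congr 2
    rw [mul_zpow, ← mul_assoc, ← zpow_add, neg_add_cancel, zpow_zero, one_mul]
  have huwt : Wt τ c (m : ℤ) u := hw.pow m
  have huYu : u * Y * u = u := by
    have key : ∀ t, u * g t * u = u := fun t => by
      have h1 : τ t⁻¹ * u = ((c t⁻¹ ^ (m : ℤ) : kˣ) : k) • (u * τ t⁻¹) := huwt t⁻¹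
      have h2 : u * τ t = ((c t⁻¹ ^ (m : ℤ) : kˣ) : k) • (τ t * u) := by
        rw [huwt t, smul_smul, ← Units.val_mul, ← mul_zpow, ← map_mul, inv_mul_cancel, map_one,
          one_zpow, Units.val_one, one_smul]
      calc u * g t * u = ((c t ^ (m : ℤ) : kˣ) : k) • ((u * τ t) * Y₀ * (τ t⁻¹ * u)) := by
            simp only [hg, mul_smul_comm, smul_mul_assoc, mul_assoc]
        _ = ((c t ^ (m : ℤ) * (c t⁻¹ ^ (m : ℤ) * c t⁻¹ ^ (m : ℤ)) : kˣ) : k) •
              (τ t * (u * Y₀ * u) * τ t⁻¹) := by
            rw [h1, h2]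
            simp only [smul_mul_assoc, mul_smul_comm, smul_smul, Units.val_mul, mul_assoc]
        _ = u := by
            rw [hY₀, huwt t, smul_mul_assoc, mul_assoc, hτi, mul_one, smul_smul, ← Units.val_mul,
              map_inv, inv_zpow]
            simp
    rw [hY, mul_smul_comm, smul_mul_assoc, Finset.mul_sum, Finset.sum_mul,
      Finset.sum_congr rfl fun t _ => key t, Finset.sum_const, Finset.card_univ, ← Nat.card_eq_fintype_card,
      ← Nat.cast_smul_eq_nsmul k, smul_smul, inv_mul_cancel₀ hH, one_smul]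
  suffices key : ∀ d, d ≤ m → ∃ L, Wt τ c (-(m : ℤ)) L ∧ L * u * L = L ∧ L ≠ 0 ∧
      ∀ j, m - d ≤ j → j < m → L * w ^ j * L = 0 by
    obtain ⟨L, h1, h2, h3, h4⟩ := key m le_rfl
    exact ⟨L, ⟨h0, h2, fun j hj => h4 j (by omega) hj, h3⟩, h1⟩
  intro d
  induction d with
  | zero =>
    intro _
    refine ⟨Y * u * Y, ?_, ?_, fun h => hne ?_, fun j h1 h2 => absurd h2 (by omega)⟩
    · have := (hYwt.mul huwt).mul hYwt
      simpa using this
    · calc Y * u * Y * u * (Y * u * Y) = Y * (u * Y * u) * (Y * u * Y) := by noncomm_ring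
        _ = Y * u * Y * u * Y := by rw [huYu]; noncomm_ring
        _ = Y * (u * Y * u) * Y := by noncomm_ring
        _ = Y * u * Y := by rw [huYu]
    · calc w ^ m = u * Y * u := huYu.symm
        _ = u * Y * (u * Y * u) := by rw [huYu, huYu]
        _ = u * (Y * u * Y) * u := by noncomm_ring
        _ = 0 := by rw [h, mul_zero, zero_mul]
  | succ d ih =>
    intro hd
    obtain ⟨L, hLwt, hLu, hLne, hLlow⟩ := ih (by omega)
    set j := m - (d + 1) with hj
    set L' := L - w ^ (d + 1) * (L * w ^ j * L) with hL'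
    have hpow : ∀ i, m < i → w ^ i = 0 := fun i hi => pow_eq_zero_of_le hi h0
    have hA : ∀ i, j ≤ i → i ≤ m → L * w ^ i * L' = if i = m then L else 0 := by
      intro i h1 h2
      have e : L * w ^ i * L' = L * w ^ i * L - L * w ^ (i + (d + 1)) * (L * w ^ j * L) := by
        rw [hL', mul_sub, ← mul_assoc (L * w ^ i), mul_assoc L (w ^ i) (w ^ (d + 1)), ← pow_add]
      rw [e]
      rcases (show i = j ∨ j < i by omega) with rfl | h1'
      · rw [show j + (d + 1) = m by omega, if_neg (by omega)]
        rw [show L * w ^ m * (L * w ^ j * L) = (L * u * L) * w ^ j * L by rw [hu]; noncomm_ring, hLu,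
          sub_self]
      · rw [hpow (i + (d + 1)) (by omega), mul_zero, zero_mul, sub_zero]
        split_ifs with h3
        · subst h3; exact hLu
        · exact hLlow i (by omega) (by omega)
    have hB : ∀ i, j ≤ i → i ≤ m → L' * w ^ i * L' = if i = m then L' else 0 := by
      intro i h1 h2
      have e : L' * w ^ i * L' = L * w ^ i * L' - w ^ (d + 1) * (L * w ^ j * (L * w ^ i * L')) := by
        nth_rw 1 [hL']; noncomm_ring
      rw [e, hA i h1 h2]
      split_ifs <;> simp [hL', mul_assoc]
    refine ⟨L', ?_, ?_, fun h => hLne ?_, fun i h1 h2 => ?_⟩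
    · refine hLwt.sub ?_
      have := (hw.pow (d + 1)).mul ((hLwt.mul (hw.pow j)).mul hLwt)
      rwa [show ((d + 1 : ℕ) : ℤ) + (-(m : ℤ) + (j : ℤ) + -(m : ℤ)) = -(m : ℤ) by
        rw [hj, Nat.cast_sub hd]; push_cast; ring] at this
    · simpa [hu] using hB m (by omega) le_rfl
    · have := hA m (by omega) le_rfl
      rw [if_pos rfl, h, mul_zero] at this
      exact this.symm
    · simpa [h2.ne] using hB i h1 h2.le

theorem unit'_trace {w L : Module.End k V} {m : ℕ} (HL : IsPartInv w L m) {i j : ℕ} (hi : i ≤ m)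
    (hj : j ≤ m) : tr (unit' w L m i j) = if i = j then tr (unit' w L m 0 0) else 0 := by
  have e : ∀ a b, a ≤ m → b ≤ m → unit' w L m a b = unit' w L m a 0 * unit' w L m 0 b := fun a b _ _ => by
    rw [HL.mul_unit' (Nat.zero_le _) (Nat.zero_le _), if_pos rfl]
  rw [e i j hi hj, tr_comm, HL.mul_unit' hj hi]
  by_cases h : i = j
  · rw [if_pos h, if_pos h.symm]
  · rw [if_neg h, if_neg (Ne.symm h)]; simp [tr]

theorem trace_unit'_ne_zero {w L : Module.End k V} {m : ℕ} (HL : IsPartInv w L m)
    (hn : Module.finrank k V < p) : tr (unit' w L m 0 0) ≠ 0 := by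
  set e := unit' w L m 0 0 with he
  have hee : e * e = e := by rw [he, HL.mul_unit' (Nat.zero_le _) (Nat.zero_le _), if_pos rfl]
  have hproj : LinearMap.IsProj (LinearMap.range e) e := by
    refine ⟨fun v => ⟨v, rfl⟩, ?_⟩
    rintro _ ⟨v, rfl⟩
    exact LinearMap.congr_fun hee v
  have hne : e ≠ 0 := fun h => HL.ne (by
    have h1 : e * L = L := by
      rw [he, unit', pow_zero, one_mul, Nat.sub_zero, HL.top]
    rw [← h1, h, zero_mul])
  rw [tr, hproj.trace]
  intro h
  rw [CharP.cast_eq_zero_iff k p] at h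
  have hle := Submodule.finrank_le (LinearMap.range e)
  have hpos : 0 < Module.finrank k (LinearMap.range e) := by
    rw [Module.finrank_pos_iff, Submodule.nontrivial_iff_ne_bot]
    exact fun hb => hne (LinearMap.range_eq_bot.1 hb)
  have := Nat.le_of_dvd hpos h
  omega

/-- The triple exists. -/
theorem exists_triple (hxp : x ^ p = 1) (hx1 : x ≠ 1) (hn : 2 * Module.finrank k V < p)
    (hH : ¬ p ∣ Nat.card H) (τ : H →* Module.End k V) (r : H →* (ZMod p)ˣ)
    (hτ : ∀ t, τ t * x = x ^ (r t : ZMod p).val * τ t) :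
    ∃ a h f, Triple x τ ((Units.map (resHom p k).toMonoidHom).comp r) a h f := by
  classical
  obtain ⟨m, hm1, hm, h0, hne⟩ := exists_exponent (p := p) hxp hx1 hn
  have hp2 : p ≠ 2 := by omega
  set c := (Units.map (resHom p k).toMonoidHom).comp r with hc
  set w := aeval x (logPoly p k) with hw
  have hcast : (Nat.card H : k) ≠ 0 := fun h => hH ((CharP.cast_eq_zero_iff k p _).1 h)
  have hwwt : Wt τ c 1 w := by
    intro t
    have hpow : ∀ i : ℕ, τ t * x ^ i = x ^ ((r t : ZMod p).val * i) * τ t := fun i => by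
      induction i with
      | zero => simp
      | succ i ih => rw [pow_succ, ← mul_assoc, ih, mul_assoc, hτ, ← mul_assoc, ← pow_add, Nat.mul_succ]
    simp only [hw, logPoly, map_neg, map_sum, map_mul, aeval_C, map_pow, aeval_X, ← Algebra.smul_def,
      mul_neg, neg_mul, smul_neg, Finset.mul_sum, Finset.sum_mul, Finset.smul_sum, mul_smul_comm, smul_mul_assoc]
    refine congrArg _ ?_
    refine Fintype.sum_equiv (Equiv.mulLeft (r t)) _ _ fun a => ?_
    rw [hpow, Equiv.coe_mulLeft, smul_smul]
    congr 1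
    · simp only [hc, MonoidHom.comp_apply, zpow_one, Units.coe_map, MonoidHom.coe_coe, RingHom.toMonoidHom_eq_coe]
      rw [← map_mul, ← Units.val_mul, mul_inv_rev, ← mul_assoc, mul_comm (r t), mul_assoc, mul_inv_cancel,
        mul_one]
    · congr 1
      rw [Units.val_mul, ZMod.val_mul, pow_eq_pow_mod _ hxp]
  obtain ⟨L, HL, hLwt⟩ := exists_partInv τ c hcast hwwt h0 hne
  set a := raiseEl w L m with ha
  set h := diagEl k w L m with hh
  set f := lowEl k w L m with hf
  have hwa : w * a = a * w := HL.raiseEl_comm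
  have hhw : h * w = w * h - (2 : k) • a := HL.diagEl_comm
  have hfw : f * w = w * f + h := HL.lowEl_comm
  have hxpow : ∀ R : k[X], aeval x ((X - 1) ^ p * R) = 0 := fun R => by
    haveI : CharP k[X] p := inferInstance
    rw [sub_pow_char, one_pow, map_mul, map_sub, map_pow, aeval_X, map_one, hxp, sub_self, zero_mul]
  have hdbig : ∀ R : k[X], aeval x (dX k ((X - 1) ^ p * R)) = 0 := fun R => by
    have : dX k ((X - 1) ^ p * R) = (X - 1) ^ p * dX k R := by
      rw [dX_mul, show dX k ((X - 1) ^ p : k[X]) = 0 by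
        simp [dX, derivative_pow, CharP.cast_eq_zero k p]]
      ring
    rw [this, hxpow]
  have hd2big : ∀ R : k[X], aeval x (dX k (dX k ((X - 1) ^ p * R))) = 0 := fun R => by
    have : dX k ((X - 1) ^ p * R) = (X - 1) ^ p * dX k R := by
      rw [dX_mul, show dX k ((X - 1) ^ p : k[X]) = 0 by
        simp [dX, derivative_pow, CharP.cast_eq_zero k p]]
      ring
    rw [this, hdbig]
  have hy : ∀ i, Module.finrank k V ≤ i → aeval x ((X - 1 : k[X]) ^ i) = 0 := fun i hi => by
    rw [map_pow, map_sub, aeval_X, map_one]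
    exact pow_eq_zero_of_le hi (sub_one_pow_finrank (p := p) hxp)
  have hd1 : aeval x (dX k (logPoly p k)) = 1 := by
    rw [dX_logPoly, map_sub, map_one, hy _ (by omega), sub_zero]
  have hd2 : aeval x (dX k (dX k (logPoly p k))) = 0 := by
    rw [dX_logPoly, show dX k (1 - (X - 1) ^ (p - 1) : k[X]) =
      (X - 1) ^ (p - 2) * (-(X * C ((p - 1 : ℕ) : k))) by
        simp [dX, derivative_sub, derivative_pow, show p - 1 - 1 = p - 2 by omega]; ring,
      map_mul, hy _ (by omega), zero_mul]
  have hac : ∀ P : k[X], a * aeval x P = aeval x P * a := by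
    refine poly_induction hp2 _ (fun s => ?_) (fun P Q h1 h2 => ?_) (fun P Q h1 h2 => ?_) hwa.symm fun R => ?_
    · rw [aeval_C]; exact (Algebra.commutes s a).symm
    · simp [mul_add, add_mul, h1, h2]
    · rw [map_mul, ← mul_assoc, h1, mul_assoc, h2, ← mul_assoc]
    · rw [hxpow, mul_zero, zero_mul]
  have hhc : ∀ P : k[X], h * aeval x P = aeval x P * h - (2 : k) • (a * aeval x (dX k P)) := by
    refine poly_induction hp2 _ (fun s => ?_) (fun P Q h1 h2 => ?_) (fun P Q h1 h2 => ?_) ?_ fun R => ?_
    · rw [dX_C, map_zero, mul_zero, smul_zero, sub_zero, aeval_C]; exact (Algebra.commutes s h).symm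
    · simp only [map_add, mul_add, add_mul, dX_add, smul_add, h1, h2]; abel
    · rw [dX_mul, map_add, map_mul, map_mul, map_mul, ← mul_assoc, h1, sub_mul, mul_assoc (aeval x P) h,
        h2, mul_sub, smul_mul_assoc, mul_smul_comm, ← mul_assoc (aeval x P) a, ← hac P,
        mul_assoc, mul_assoc, mul_assoc, mul_add, smul_add]
      abel
    · rw [← hw, hd1, mul_one, hhw]
    · rw [hxpow, hdbig, mul_zero, zero_mul, mul_zero, smul_zero, sub_zero]
  have hfc : ∀ P : k[X], f * aeval x P = aeval x P * f + aeval x (dX k P) * h -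
      a * aeval x (dX k (dX k P)) := by
    refine poly_induction hp2 _ (fun s => ?_) (fun P Q h1 h2 => ?_) (fun P Q h1 h2 => ?_) ?_ fun R => ?_
    · rw [dX_C, show dX k (0 : k[X]) = 0 by simp [dX], map_zero, zero_mul, mul_zero, add_zero, sub_zero, aeval_C]
      exact (Algebra.commutes s f).symm
    · simp only [map_add, mul_add, add_mul, dX_add, h1, h2]; abel
    · have e2 : aeval x (dX k (dX k (P * Q))) = aeval x (dX k (dX k P)) * aeval x Q +
          (2 : k) • (aeval x (dX k P) * aeval x (dX k Q)) + aeval x P * aeval x (dX k (dX k Q)) := by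
        simp only [dX_mul, dX_add, map_add, map_mul, two_smul]
        abel
      calc f * aeval x (P * Q) = f * aeval x P * aeval x Q := by rw [map_mul, mul_assoc]
        _ = aeval x P * (f * aeval x Q) + aeval x (dX k P) * (h * aeval x Q) -
              a * (aeval x (dX k (dX k P)) * aeval x Q) := by
            rw [h1]; noncomm_ring
        _ = _ := by
            rw [h2, hhc Q, e2, dX_mul, map_add, map_mul, map_mul, map_mul]
            simp only [mul_add, mul_sub, add_mul, smul_add, mul_smul_comm]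
            rw [← mul_assoc (aeval x P) a, ← hac P, ← mul_assoc (aeval x (dX k P)) a, ← hac (dX k P)]
            simp only [mul_assoc]
            abel
    · rw [← hw, hd1, hd2, one_mul, mul_zero, sub_zero, hfw]
    · rw [hxpow, hdbig, hd2big, mul_zero, zero_mul, zero_mul, mul_zero, add_zero, sub_zero]
  have xa : x * a = a * x := by simpa using (hac X).symm
  have hx' : h * x = x * h - (2 : k) • (a * x) := by simpa [dX_X] using hhc X
  have xh : x * h = (h + (2 : k) • a) * x := by rw [add_mul, smul_mul_assoc, hx']; abel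
  have fx' : f * x = x * f + x * h - a * x := by simpa [dX_X] using hfc X
  have xf : x * f = (f - h - a) * x := by
    rw [sub_mul, sub_mul, fx', hx', xh, add_mul, smul_mul_assoc]
    have : (2 : k) • (a * x) = a * x + a * x := two_smul k _
    rw [this, hx', xh, add_mul, smul_mul_assoc, this]
    abel
  set s := tr (unit' w L m 0 0) with hs
  have haf : tr (a * f) = ((m + 2).choose 3 : k) * s := by
    rw [ha, hf, raiseEl, lowEl, Finset.sum_mul, ← sum_lowCoef k m, Finset.sum_mul]
    simp only [Finset.mul_sum, mul_smul_comm, tr, map_sum, map_smul, smul_eq_mul]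
    refine Finset.sum_congr rfl fun i hi => ?_
    have hi' := Finset.mem_range.1 hi
    rw [Finset.sum_eq_single i]
    · rw [HL.mul_unit' hi'.le hi'.le, if_pos rfl]
      congr 1
      exact (unit'_trace HL hi' hi').trans (if_pos rfl)
    · intro j hj hji
      rw [HL.mul_unit' hi'.le (Finset.mem_range.1 hj).le, if_neg hji.symm, map_zero, mul_zero]
    · exact fun h => absurd hi h
  have hoff : tr (a * a) = 0 ∧ tr (f * f) = 0 := by
    constructor
    · rw [ha, raiseEl, Finset.sum_mul]
      simp only [Finset.mul_sum, tr, map_sum]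
      refine Finset.sum_eq_zero fun i hi => Finset.sum_eq_zero fun j hj => ?_
      have hi' := Finset.mem_range.1 hi
      have hj' := Finset.mem_range.1 hj
      rw [HL.mul_unit' hi'.le hj']
      split_ifs with he
      · exact (unit'_trace HL hi' hj'.le).trans (if_neg (by omega))
      · exact map_zero _
    · rw [hf, lowEl, Finset.sum_mul]
      simp only [Finset.mul_sum, smul_mul_assoc, mul_smul_comm, tr, map_sum, map_smul]
      refine Finset.sum_eq_zero fun i hi => Finset.sum_eq_zero fun j hj => ?_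
      have hi' := Finset.mem_range.1 hi
      have hj' := Finset.mem_range.1 hj
      rw [HL.mul_unit' hi' hj'.le]
      split_ifs with he
      · rw [show LinearMap.trace k V (unit' w L m i (j + 1)) = 0 from
          (unit'_trace HL hi'.le hj').trans (if_neg (by omega))]
        simp
      · simp
  have heq : h = f * w - w * f := by rw [hfw]; abel
  have ha2 : (2 : k) • a = w * h - h * w := by rw [hhw]; abel
  have hsub : ∀ b g : Module.End k V, tr (b - g) = tr b - tr g := fun b g => map_sub _ _ _
  have hah : tr (a * h) = 0 := by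
    rw [heq, mul_sub, hsub, ← mul_assoc, ← mul_assoc, tr_comm (a * f) w, ← mul_assoc, hwa, sub_self]
  have hhf : tr (h * f) = 0 := by
    rw [heq, sub_mul, hsub, mul_assoc, tr_comm f (w * f), sub_self]
  have hhh : tr (h * h) = 2 * tr (a * f) := by
    nth_rw 2 [heq]
    rw [mul_sub, hsub, ← mul_assoc, ← mul_assoc, tr_comm (h * f) w, ← mul_assoc, ← hsub, ← sub_mul, ← ha2,
      smul_mul_assoc, tr, map_smul, smul_eq_mul]
    rfl
  have hs0 : s ≠ 0 := trace_unit'_ne_zero HL (p := p) (by omega)
  have hch : ((m + 2).choose 3 : k) ≠ 0 := by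
    intro h'
    rw [CharP.cast_eq_zero_iff k p] at h'
    have h'' : p ∣ Nat.factorial (m + 2) :=
      h'.trans (Dvd.intro (Nat.factorial 3 * Nat.factorial (m + 2 - 3))
        (by rw [← mul_assoc]; exact Nat.choose_mul_factorial_mul_factorial (by omega)))
    have := hp.out.dvd_factorial.1 h''
    omega
  have hunit : ∀ i j, i ≤ m + 1 → j ≤ m → Wt τ c ((i : ℤ) - (j : ℤ)) (unit' w L m i j) := fun i j _ hj => by
    have := ((hwwt.pow i).mul hLwt).mul (hwwt.pow (m - j))
    rwa [show (i : ℤ) + -(m : ℤ) + ((m - j : ℕ) : ℤ) = (i : ℤ) - (j : ℤ) by rw [Nat.cast_sub hj]; ring] at this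
  refine ⟨a, h, f, xa, xh, xf, hoff.1, hah, hhf, hoff.2, ?_, hhh, fun t => ?_, fun t => ?_, fun t => ?_⟩
  · rw [haf]; exact mul_ne_zero hch hs0
  · have : Wt τ c 1 a := by
      rw [ha, raiseEl]
      refine Wt.sum _ fun i hi => ?_
      have := hunit (i + 1) i (by have := Finset.mem_range.1 hi; omega) (Finset.mem_range.1 hi).le
      rwa [show ((i + 1 : ℕ) : ℤ) - (i : ℤ) = 1 by push_cast; ring] at this
    simpa using this t
  · have : Wt τ c 0 h := by
      rw [hh, diagEl]
      refine Wt.sum _ fun i hi => Wt.smul ?_ _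
      have hi' := Finset.mem_range.1 hi
      have := hunit i i (by omega) (by omega)
      rwa [sub_self] at this
    simpa using this t
  · have : Wt τ c (-1) f := by
      rw [hf, lowEl]
      refine Wt.sum _ fun i hi => Wt.smul ?_ _
      have := hunit i (i + 1) (by have := Finset.mem_range.1 hi; omega) (Finset.mem_range.1 hi)
      rwa [show (i : ℤ) - ((i + 1 : ℕ) : ℤ) = -1 by push_cast; ring] at this
    simpa using this t

end Cfsg.Agent.BlocksChars.HalfDegree
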