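import Mathlib

/-!
# Half degree: matrix units from a nilpotent element and a partial inverse
-/

set_option autoImplicit false
set_option linter.style.haveILetI false
set_option linter.unusedSectionVars false

namespace Cfsg.Agent.BlocksChars.HalfDegree

universe u v

variable {k : Type u} [Field k] {A : Type v} [Ring A] [Algebra k A]

/-- The elements `wⁱ Λ w^(m-j)`. -/
def unit' (w L : A) (m i j : ℕ) : A := w ^ i * L * w ^ (m - j)

/-- The hypothesis on a partial inverse `L` of `w ^ m`. -/
structure IsPartInv (w L : A) (m : ℕ) : Prop where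
  nil : w ^ (m + 1) = 0
  top : L * w ^ m * L = L
  low : ∀ j, j < m → L * w ^ j * L = 0
  ne : L ≠ 0

variable {w L : A} {m : ℕ}

theorem IsPartInv.pow_zero (H : IsPartInv w L m) {j : ℕ} (hj : m < j) : w ^ j = 0 := by
  obtain ⟨d, rfl⟩ := Nat.exists_eq_add_of_le hj
  rw [pow_add, show m.succ = m + 1 from rfl, H.nil, zero_mul]

theorem IsPartInv.mul_unit' (H : IsPartInv w L m) {i j q l : ℕ} (hj : j ≤ m) (hq : q ≤ m) :
    unit' w L m i j * unit' w L m q l = if j = q then unit' w L m i l else 0 := by
  have hmid : L * (w ^ (m - j) * w ^ q) * L = if j = q then L else 0 := by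
    rw [← pow_add]
    rcases lt_trichotomy j q with h | h | h
    · rw [H.pow_zero (by omega), if_neg h.ne, mul_zero, zero_mul]
    · rw [if_pos h, show m - j + q = m by omega, H.top]
    · rw [if_neg h.ne', H.low _ (by omega)]
  calc unit' w L m i j * unit' w L m q l
      = w ^ i * (L * (w ^ (m - j) * w ^ q) * L) * w ^ (m - l) := by simp only [unit', mul_assoc]
    _ = _ := by rw [hmid]; split_ifs <;> simp [unit', mul_assoc]

/-- The raising element. -/
def raiseEl (w L : A) (m : ℕ) : A := ∑ i ∈ Finset.range m, unit' w L m (i + 1) i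

/-- The diagonal element. -/
def diagEl (k : Type u) [Field k] [Algebra k A] (w L : A) (m : ℕ) : A :=
  ∑ i ∈ Finset.range (m + 1), ((m : k) - 2 * (i : k)) • unit' w L m i i

/-- The coefficients of the lowering element. -/
def lowCoef (k : Type u) [Field k] (m i : ℕ) : k := ((i : k) + 1) * ((m : k) - (i : k))

/-- The lowering element. -/
def lowEl (k : Type u) [Field k] [Algebra k A] (w L : A) (m : ℕ) : A :=
  ∑ i ∈ Finset.range m, lowCoef k m i • unit' w L m i (i + 1)

theorem unit'_mul_w (H : IsPartInv w L m) (i j : ℕ) :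
    unit' w L m i (j + 1) * w = if j < m then unit' w L m i j else unit' w L m i (j + 1) * w := by
  split_ifs with h
  · simp only [unit', mul_assoc, ← pow_succ]
    rw [show m - (j + 1) + 1 = m - j by omega]
  · rfl

theorem unit'_zero_mul_w (H : IsPartInv w L m) (i : ℕ) : unit' w L m i 0 * w = 0 := by
  simp [unit', mul_assoc, ← pow_succ, H.nil]

theorem w_mul_unit' (i j : ℕ) : w * unit' w L m i j = unit' w L m (i + 1) j := by
  simp only [unit', ← mul_assoc, ← pow_succ']

theorem IsPartInv.succ_top (H : IsPartInv w L m) (j : ℕ) : unit' w L m (m + 1) j = 0 := by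
  simp [unit', H.nil]

theorem IsPartInv.diagEl_comm (H : IsPartInv w L m) :
    diagEl k w L m * w = w * diagEl k w L m - (2 : k) • raiseEl w L m := by
  simp only [diagEl, raiseEl, Finset.sum_mul, Finset.mul_sum, Finset.smul_sum, mul_smul_comm,
    smul_mul_assoc]
  rw [Finset.sum_range_succ' (fun i => ((m : k) - 2 * (i : k)) • (unit' w L m i i * w)),
    unit'_zero_mul_w H, smul_zero, add_zero,
    Finset.sum_range_succ (fun i => ((m : k) - 2 * (i : k)) • (w * unit' w L m i i)),
    w_mul_unit', H.succ_top, smul_zero, add_zero, ← Finset.sum_sub_distrib]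
  refine Finset.sum_congr rfl fun i hi => ?_
  rw [unit'_mul_w H, if_pos (Finset.mem_range.1 hi), w_mul_unit', ← sub_smul]
  congr 1
  push_cast
  ring

theorem IsPartInv.lowEl_comm (H : IsPartInv w L m) :
    lowEl k w L m * w = w * lowEl k w L m + diagEl k w L m := by
  simp only [lowEl, diagEl, Finset.sum_mul, Finset.mul_sum, mul_smul_comm, smul_mul_assoc]
  have e1 : ∀ i ∈ Finset.range m, lowCoef k m i • (unit' w L m i (i + 1) * w) =
      lowCoef k m i • unit' w L m i i := fun i hi => by
    rw [unit'_mul_w H, if_pos (Finset.mem_range.1 hi)]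
  rw [Finset.sum_congr rfl e1]
  simp only [w_mul_unit']
  have e2 : ∑ i ∈ Finset.range m, lowCoef k m i • unit' w L m i i =
      ∑ i ∈ Finset.range (m + 1), lowCoef k m i • unit' w L m i i := by
    rw [Finset.sum_range_succ, show lowCoef k m m = 0 by simp [lowCoef], zero_smul, add_zero]
  have e3 : ∑ i ∈ Finset.range m, lowCoef k m i • unit' w L m (i + 1) (i + 1) =
      ∑ i ∈ Finset.range (m + 1), ((i : k) * ((m : k) + 1 - (i : k))) • unit' w L m i i := by
    rw [Finset.sum_range_succ']
    simp only [Nat.cast_zero, zero_mul, zero_smul, add_zero]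
    refine Finset.sum_congr rfl fun i _ => ?_
    congr 1
    simp only [lowCoef]
    push_cast
    ring
  rw [e2, e3, ← Finset.sum_add_distrib]
  refine Finset.sum_congr rfl fun i _ => ?_
  rw [← add_smul]
  congr 1
  simp only [lowCoef]
  ring

theorem IsPartInv.raiseEl_comm (H : IsPartInv w L m) : w * raiseEl w L m = raiseEl w L m * w := by
  have h0 : ∀ i ∈ Finset.range (m + 1), unit' w L m (i + 1) i = w * (unit' w L m i i) := fun i _ =>
    (w_mul_unit' i i).symm
  have e : raiseEl w L m = ∑ i ∈ Finset.range (m + 1), unit' w L m (i + 1) i := by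
    rw [raiseEl, Finset.sum_range_succ, H.succ_top, add_zero]
  rw [e]
  simp only [Finset.mul_sum, Finset.sum_mul, w_mul_unit']
  rw [Finset.sum_range_succ, Finset.sum_range_succ']
  simp only [unit'_zero_mul_w H, add_zero]
  rw [show unit' w L m (m + 1 + 1) m = 0 by simp [unit', H.pow_zero (show m < m + 1 + 1 by omega)], add_zero]
  refine Finset.sum_congr rfl fun i hi => ?_
  rw [unit'_mul_w H, if_pos (Finset.mem_range.1 hi)]

theorem sum_lowCoef (k : Type u) [Field k] (m : ℕ) :
    ∑ i ∈ Finset.range m, lowCoef k m i = ((m + 2).choose 3 : k) := by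
  induction m with
  | zero => simp
  | succ m ih =>
    have h2 : ∀ r : ℕ, ∑ i ∈ Finset.range r, ((i : k) + 1) = ((r + 1).choose 2 : k) := fun r => by
      induction r with
      | zero => simp
      | succ r ihr =>
        rw [Finset.sum_range_succ, ihr, Nat.choose_succ_succ' (r + 1) 1, Nat.choose_one_right]
        push_cast
        ring
    have e : ∀ i ∈ Finset.range (m + 1), lowCoef k (m + 1) i = lowCoef k m i + ((i : k) + 1) := fun i _ => by
      simp only [lowCoef]; push_cast; ring
    rw [Finset.sum_congr rfl e, Finset.sum_add_distrib, Finset.sum_range_succ,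
      show lowCoef k m m = 0 by simp [lowCoef], add_zero, ih, h2, Nat.choose_succ_succ' (m + 2) 2]
    push_cast
    ring

end Cfsg.Agent.BlocksChars.HalfDegree
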